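import Mathlib
import Cfsg.Agent.H348.Nonsolvable
import Cfsg.Agent.H348.SolvableFPF
import Cfsg.Agent.H348.FPFZGroup
import Cfsg.Agent.H348.ZGroup
import Cfsg.Agent.H379.P4.Defs

/-!
# Fixed-point-free groups with the element orders of `PSp₄(q)` outside the isolated torus do not exist
-/

set_option autoImplicit false

namespace Cfsg.Agent.H374.P4

open Subgroup Cfsg.Agent.H348 Cfsg.Agent.H379.P4 Cfsg.Agent.H374.Quad

/-- In a normal `Z`-subgroup of a fixed-point-free group there is at most one subgroup of each prime order. -/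
theorem unique_of_zgroup {Z : Type*} [Group Z] [Finite Z] (h : HasFPF Z) [hZ : IsZGroup Z] {p : ℕ}
    (hp : p.Prime) {w w' : Z} (ho : orderOf w = p) (ho' : orderOf w' = p) : w' ∈ zpowers w := by
  obtain ⟨x, y, r, hy, hcl, hcard, hcop, hrel, hr, hr1, hrn⟩ := zgroup_structure (G := Z)
  have hn : 0 < orderOf x := orderOf_pos x
  by_cases hpy : p ∣ orderOf y
  · have hpx : ¬ p ∣ orderOf x := fun hpx => hp.one_lt.ne' (Nat.dvd_one.1 (hcop ▸ Nat.dvd_gcd hpx hpy))
    have hnorm : (zpowers y).Normal := by rw [hy]; infer_instance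
    have hidx : (zpowers y).index = orderOf x := by
      have h1 := (zpowers y).card_mul_index
      rw [Nat.card_zpowers, ← hcard, mul_comm (orderOf x)] at h1
      exact Nat.eq_of_mul_eq_mul_left (orderOf_pos y) h1
    have key : ∀ z : Z, orderOf z = p → z ∈ zpowers y := by
      intro z hz
      rw [← QuotientGroup.eq_one_iff, ← orderOf_eq_one_iff]
      have h1 : orderOf (z : Z ⧸ zpowers y) ∣ p := hz ▸ orderOf_map_dvd (QuotientGroup.mk' (zpowers y)) z
      rcases (Nat.dvd_prime hp).1 h1 with h2 | h2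
      · exact h2
      · exfalso
        apply hpx
        rw [← h2, ← hidx]
        exact orderOf_dvd_natCard _
    obtain ⟨i, hi⟩ := mem_zpowers_iff.1 (key w ho)
    obtain ⟨j, hj⟩ := mem_zpowers_iff.1 (key w' ho')
    have hc : w * w' = w' * w := by
      rw [← hi, ← hj]
      exact ((Commute.refl y).zpow_zpow i j).eq
    rw [h.zpowers_eq hc (ho.trans ho'.symm)]
    exact mem_zpowers w'
  · have hpx : p ∣ orderOf x := by
      have h1 : p ∣ Nat.card Z := ho ▸ orderOf_dvd_natCard w
      rw [← hcard] at h1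
      exact (hp.dvd_mul.1 h1).resolve_right hpy
    set P := ∏ q ∈ (orderOf x).primeFactors, q with hP
    have hpP : p ∣ P := Finset.dvd_prod_of_mem _ (Nat.mem_primeFactors.2 ⟨hp, hpx, hn.ne'⟩)
    have hPn : P ∣ orderOf x := Nat.prod_primeFactors_dvd _
    obtain ⟨a, ha⟩ := hpP
    obtain ⟨b, hb⟩ := hPn
    have h1 := h.pow_condition hcop hrel hrn
    rw [← hP] at h1
    have hPpos : 0 < P := Nat.pos_of_ne_zero (by rintro h0; rw [h0, zero_mul] at hb; omega)
    have h2 : orderOf x / P = b := by rw [hb, Nat.mul_div_cancel_left _ hPpos]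
    have h3 : orderOf x / p = b * a := by
      rw [hb, ha, mul_assoc, Nat.mul_div_cancel_left _ hp.pos, mul_comm]
    rw [h2] at h1
    have h4 : r ^ (orderOf x / p) ≡ 1 [MOD orderOf y] := by
      rw [h3, pow_mul]
      have : (r ^ b) ^ a ≡ 1 ^ a [MOD orderOf y] := Nat.ModEq.pow a h1
      rwa [one_pow] at this
    set z := x ^ (orderOf x / p) with hz
    have hzo : orderOf z = p := by
      have h5 : orderOf x ≠ 0 := hn.ne'
      rw [hz, orderOf_pow_of_dvd (Nat.div_pos (Nat.le_of_dvd hn hpx) hp.pos).ne' (Nat.div_dvd_of_dvd hpx),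
        Nat.div_div_self hpx h5]
    have hzy : z * y = y * z := by
      have h5 := conj_pow_of_rel hrel (orderOf x / p)
      have h6 : y ^ (r ^ (orderOf x / p)) = y := by
        have := (pow_eq_pow_iff_modEq (x := y)).2 h4
        rwa [pow_one] at this
      rw [h6] at h5
      calc z * y = z * (z⁻¹ * y * z) := by rw [← hz] at h5; rw [h5]
        _ = y * z := by group
    have hzx : z * x = x * z := ((Commute.refl x).pow_left _).eq
    have hcen : ∀ g : Z, z * g = g * z := by
      intro g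
      have h5 : (⊤ : Subgroup Z) ≤ centralizer {z} := by
        rw [← hcl, closure_le]
        rintro g (rfl | rfl)
        · exact mem_centralizer_singleton_iff.2 hzx.symm
        · exact mem_centralizer_singleton_iff.2 hzy.symm
      exact (mem_centralizer_singleton_iff.1 (h5 (mem_top g))).symm
    rw [← h.zpowers_eq (hcen w) (hzo.trans ho.symm), h.zpowers_eq (hcen w') (hzo.trans ho'.symm)]
    exact mem_zpowers w'

theorem no_fifteen (x : Matrix.SpecialLinearGroup (Fin 2) (ZMod 5)) (h : orderOf x = 15) : False := by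
  have key : ∀ a b c d : ZMod 5, a * d - b * c = 1 →
      (!![a, b; c, d] : Matrix (Fin 2) (Fin 2) (ZMod 5)) ^ 15 = 1 →
      (!![a, b; c, d] : Matrix (Fin 2) (Fin 2) (ZMod 5)) ^ 3 = 1 ∨
      (!![a, b; c, d] : Matrix (Fin 2) (Fin 2) (ZMod 5)) ^ 5 = 1 := by
    decide +kernel
  have h1 : (x : Matrix (Fin 2) (Fin 2) (ZMod 5)) = !![x.1 0 0, x.1 0 1; x.1 1 0, x.1 1 1] :=
    Matrix.eta_fin_two _
  have h2 : x.1 0 0 * x.1 1 1 - x.1 0 1 * x.1 1 0 = 1 := by
    have := x.2
    rwa [Matrix.det_fin_two] at this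
  have h3 : ∀ n : ℕ, x ^ n = 1 ↔ (x.1) ^ n = 1 := by
    intro n
    rw [← Matrix.SpecialLinearGroup.coe_pow, ← Matrix.SpecialLinearGroup.coe_one]
    exact ⟨fun h => congrArg Subtype.val h, fun h => Subtype.ext h⟩
  have h4 := key _ _ _ _ h2 (by
    rw [← h1, ← h3]
    rw [← h, pow_orderOf_eq_one])
  rw [← h1, ← h3, ← h3] at h4
  rcases h4 with h4 | h4
  · have := orderOf_dvd_of_pow_eq_one h4
    rw [h] at this
    omega
  · have := orderOf_dvd_of_pow_eq_one h4
    rw [h] at this
    omega

/-- **There is at most one subgroup of order `p`**, `p ≥ 5`. -/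
theorem unique_p {H : Type*} [Group H] [Finite H] (h : HasFPF H) {p : ℕ} (hp : p.Prime) (h5 : 5 ≤ p)
    (h15 : p = 5 → ∃ x : H, orderOf x = 15) {w w' : H} (hw : orderOf w = p) (hw' : orderOf w' = p) :
    w' ∈ zpowers w := by
  by_cases hs : Group.IsSolvable H
  · obtain ⟨G₀, hn, ⟨f, hf⟩, hZ⟩ := h.solvable
    have key : ∀ z : H, orderOf z = p → z ∈ G₀ := by
      intro z hz
      rw [← hf, MonoidHom.mem_ker, ← orderOf_eq_one_iff]
      have h1 : orderOf (f z) ∣ p := hz ▸ orderOf_map_dvd f z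
      rcases (Nat.dvd_prime hp).1 h1 with h2 | h2
      · exact h2
      · exfalso
        have h3 : p ∣ Nat.card (Equiv.Perm (Fin 4)) := h2 ▸ orderOf_dvd_natCard (f z)
        rw [Nat.card_perm, Nat.card_eq_fintype_card, Fintype.card_fin, show Nat.factorial 4 = 2 ^ 3 * 3 by decide] at h3
        rcases hp.dvd_mul.1 h3 with h4 | h4
        · have := Nat.le_of_dvd (by norm_num) (hp.dvd_of_dvd_pow h4)
          omega
        · have := Nat.le_of_dvd (by norm_num) h4
          omega
    have h1 := unique_of_zgroup (h.subgroup G₀) (Z := G₀) hp (w := ⟨w, key w hw⟩) (w' := ⟨w', key w' hw'⟩)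
      (by rw [orderOf_mk, hw]) (by rw [orderOf_mk, hw'])
    obtain ⟨k, hk⟩ := mem_zpowers_iff.1 h1
    exact mem_zpowers_iff.2 ⟨k, congrArg Subtype.val hk⟩
  · obtain ⟨S, M, hSc, hMn, hSM, -, hidx, hcomm, ⟨e⟩, hcyc, hcop⟩ := h.nonsolvable hs
    have hSn : S.Normal := inferInstance
    have hZ : IsZGroup M := ⟨fun q hq P => by
      have := Fact.mk hq
      exact hcyc q P⟩
    have hodd : ∀ g : H, Odd (orderOf g) → ∃ s ∈ S, ∃ m ∈ M, s * m = g := by
      intro g hg
      have h1 : g ∈ S ⊔ M := by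
        rcases hidx with h2 | h2
        · rw [Subgroup.index_eq_one.1 h2]; trivial
        · obtain ⟨k, hk⟩ := hg
          have h3 : g ^ 2 ∈ S ⊔ M := Subgroup.sq_mem_of_index_two h2 g
          have h4 : g = (g ^ 2) ^ (k + 1) := by
            rw [← pow_mul, show 2 * (k + 1) = orderOf g + 1 by omega, pow_succ, pow_orderOf_eq_one, one_mul]
          rw [h4]
          exact pow_mem h3 _
      rw [← SetLike.mem_coe, Subgroup.mul_normal S M] at h1
      obtain ⟨s, hs, m, hm, hsm⟩ := h1
      exact ⟨s, hs, m, hm, hsm⟩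
    have hpow : ∀ (g s m : H) (n : ℕ), s ∈ S → m ∈ M → s * m = g → g ^ n = 1 → s ^ n = 1 ∧ m ^ n = 1 := by
      intro g s m n hs hm hg hn
      have h1 : s ^ n * m ^ n = 1 := by
        rw [← (show Commute s m from hcomm s hs m hm).mul_pow, hg, hn]
      have h2 : s ^ n ∈ S ⊓ M := by
        refine ⟨S.pow_mem hs n, ?_⟩
        rw [eq_inv_of_mul_eq_one_left h1]
        exact M.inv_mem (M.pow_mem hm n)
      rw [hSM, Subgroup.mem_bot] at h2
      exact ⟨h2, by rwa [h2, one_mul] at h1⟩
    by_cases hp5 : p = 5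
    · exfalso
      obtain ⟨x, hx⟩ := h15 hp5
      obtain ⟨s, hs', m, hm, hsm⟩ := hodd x (by rw [hx]; decide)
      obtain ⟨h1, h2⟩ := hpow x s m 15 hs' hm hsm (by rw [← hx, pow_orderOf_eq_one])
      have h3 : m = 1 := by
        have h4 : orderOf (⟨m, hm⟩ : M) ∣ 15 := orderOf_dvd_of_pow_eq_one (Subtype.ext h2)
        have h5 : orderOf (⟨m, hm⟩ : M) ∣ Nat.card M := orderOf_dvd_natCard _
        have h6 : orderOf (⟨m, hm⟩ : M) ∣ Nat.gcd (Nat.card M) 30 := Nat.dvd_gcd h5 (h4.trans (by norm_num))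
        rw [hcop, Nat.dvd_one, orderOf_eq_one_iff] at h6
        exact congrArg Subtype.val h6
      have h4 : orderOf s = 15 := by rw [← hx, ← hsm, h3, mul_one]
      apply no_fifteen (e ⟨s, hs'⟩)
      rw [MulEquiv.orderOf_eq, orderOf_mk, h4]
    · have hpodd : Odd p := hp.odd_of_ne_two (by omega)
      have key : ∀ z : H, orderOf z = p → z ∈ M := by
        intro z hz
        obtain ⟨s, hs', m, hm, hsm⟩ := hodd z (by rwa [hz])
        obtain ⟨h1, h2⟩ := hpow z s m p hs' hm hsm (by rw [← hz, pow_orderOf_eq_one])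
        have h3 : s = 1 := by
          have h4 : orderOf (⟨s, hs'⟩ : S) ∣ p := orderOf_dvd_of_pow_eq_one (Subtype.ext h1)
          have h5 : orderOf (⟨s, hs'⟩ : S) ∣ Nat.card S := orderOf_dvd_natCard _
          rw [Nat.card_congr e.toEquiv, Cfsg.Agent.PermutationGroups.AutSL25.natCard] at h5
          rcases (Nat.dvd_prime hp).1 h4 with h6 | h6
          · rw [orderOf_eq_one_iff] at h6
            exact congrArg Subtype.val h6
          · exfalso
            rw [h6] at h5
            have h7 : p ∣ 2 ^ 3 * 3 * 5 := by norm_num; exact h5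
            rcases hp.dvd_mul.1 h7 with h8 | h8
            · rcases hp.dvd_mul.1 h8 with h9 | h9
              · have := Nat.le_of_dvd (by norm_num) (hp.dvd_of_dvd_pow h9)
                omega
              · have := Nat.le_of_dvd (by norm_num) h9
                omega
            · have := Nat.le_of_dvd (by norm_num) h8
              omega
        rw [h3, one_mul] at hsm
        rwa [← hsm]
      have h1 := unique_of_zgroup (h.subgroup M) (Z := M) hp (w := ⟨w, key w hw⟩) (w' := ⟨w', key w' hw'⟩)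
        (by rw [orderOf_mk, hw]) (by rw [orderOf_mk, hw'])
      obtain ⟨k, hk⟩ := mem_zpowers_iff.1 h1
      exact mem_zpowers_iff.2 ⟨k, congrArg Subtype.val hk⟩

end Cfsg.Agent.H374.P4
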