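import Mathlib
import Cfsg.Agent.H374.P4.Comp

/-!
# Fixed-point-free groups: the contradiction
-/

set_option autoImplicit false

namespace Cfsg.Agent.H374.P4

open Subgroup Cfsg.Agent.H348 Cfsg.Agent.H379.P4 Cfsg.Agent.H374.Quad

section arith

variable {p q : ℕ}

theorem E_eq (hP : Par p q) : E q * Nat.gcd 2 (q - 1) = (q - 1) * (q + 1) := by
  rw [hP.E_mul, sq_sub_one q (by have := hP.big; omega)]

theorem E_big (hP : Par p q) : 3 * (q + 1) ≤ E q := by
  have h1 := E_eq hP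
  have h2 := hP.big
  have h3 := hP.ne
  rcases hP.parity with ⟨-, h4, h5⟩ | ⟨-, h4, h5⟩
  · rw [h5] at h1
    have h6 : 6 * (q + 1) ≤ (q - 1) * (q + 1) := Nat.mul_le_mul_right _ (by omega)
    omega
  · rw [h5] at h1
    have h6 : 3 * (q + 1) ≤ (q - 1) * (q + 1) := Nat.mul_le_mul_right _ (by omega)
    omega

theorem p_not_dvd_E (hP : Par p q) : ¬ p ∣ E q := by
  intro h
  have h1 : p ∣ q ^ 2 - 1 := hP.E_mul ▸ h.mul_right _
  have h2 : p ∣ q ^ 2 := hP.p_dvd.trans (dvd_pow_self q two_ne_zero)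
  have h3 : 1 ≤ q ^ 2 := Nat.one_le_pow _ _ (by have := hP.big; omega)
  have h4 : p ∣ q ^ 2 - (q ^ 2 - 1) := Nat.dvd_sub h2 h1
  rw [Nat.sub_sub_self h3] at h4
  exact hP.prime.one_lt.ne' (Nat.dvd_one.1 h4)

theorem p_not_dvd_sub (hP : Par p q) : ¬ p ∣ q - 1 := fun h => p_not_dvd_E hP (h.trans hP.sub_dvd.1)

theorem p_not_dvd_add (hP : Par p q) : ¬ p ∣ q + 1 := fun h => p_not_dvd_E hP (h.trans hP.sub_dvd.2)

/-- `p * n` in the spectrum -/
theorem om_p_mul (hP : Par p q) {n : ℕ} (hn : ¬ p ∣ n) (h : Om p q (p * n)) : n ∣ q - 1 ∨ n ∣ q + 1 := by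
  have hp := hP.prime
  rcases h with h | h | h | h | ⟨h3, h⟩ | ⟨h3, h⟩
  · exact Or.inl (Nat.dvd_of_mul_dvd_mul_left hp.pos h)
  · exact Or.inr (Nat.dvd_of_mul_dvd_mul_left hp.pos h)
  · exact absurd ((Dvd.intro _ rfl).trans h) (p_not_dvd_E hP)
  · exfalso
    have h1 : p ∣ R q := (Dvd.intro _ rfl).trans h
    exact hp.one_lt.ne' (Nat.dvd_one.1 (hP.coprime_p ▸ Nat.dvd_gcd h1 dvd_rfl))
  · subst h3
    have h1 : n ∣ 3 ^ 2 := (Dvd.intro_left _ rfl).trans h
    obtain ⟨k, hk, rfl⟩ := (Nat.dvd_prime_pow hp).1 h1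
    rcases Nat.eq_zero_or_pos k with rfl | hk0
    · exact Or.inl (by simp)
    · exact absurd (dvd_pow_self 3 hk0.ne') hn
  · subst h3
    have h1 : n ∣ 2 ^ 2 := (Dvd.intro_left _ rfl).trans h
    obtain ⟨k, hk, rfl⟩ := (Nat.dvd_prime_pow hp).1 h1
    rcases Nat.eq_zero_or_pos k with rfl | hk0
    · exact Or.inl (by simp)
    · exact absurd (dvd_pow_self 2 hk0.ne') hn

theorem not_om_p_E (hP : Par p q) : ¬ Om p q (p * E q) := by
  intro h
  have h1 := E_big hP
  have hq := hP.big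
  rcases om_p_mul hP (p_not_dvd_E hP) h with h2 | h2
  · have := Nat.le_of_dvd (by omega) h2; omega
  · have := Nat.le_of_dvd (by omega) h2; omega

theorem not_om_eighteen (hP : Par 3 q) : ¬ Om 3 q 18 := by
  intro h
  have hq := hP.big
  have h3 : 3 ∣ q := hP.p_dvd
  have hE := p_not_dvd_E hP
  rcases h with h | h | h | h | ⟨-, h⟩ | ⟨h, -⟩
  · have := p_not_dvd_sub hP; omega
  · have := p_not_dvd_add hP; omega
  · exact hE ((by norm_num : 3 ∣ 18).trans h)
  · have h1 : 3 ∣ R q := (by norm_num : 3 ∣ 18).trans h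
    have h2 := hP.coprime_p
    exact absurd (Nat.dvd_one.1 (h2 ▸ Nat.dvd_gcd h1 dvd_rfl)) (by norm_num)
  · omega
  · omega

/-- a common prime divisor of `q - 1` and `q + 1` is two -/
theorem eq_two_of_dvd {s : ℕ} (hs : s.Prime) (hq : 1 ≤ q) (h1 : s ∣ q - 1) (h2 : s ∣ q + 1) : s = 2 := by
  have h3 : s ∣ (q + 1) - (q - 1) := Nat.dvd_sub h2 h1
  rw [show q + 1 - (q - 1) = 2 by omega] at h3
  exact (Nat.prime_dvd_prime_iff_eq hs Nat.prime_two).1 h3

theorem four_dvd {n k : ℕ} (h : 8 ∣ n * k) (h4 : ¬ 4 ∣ k) : 4 ∣ n := by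
  rcases Nat.even_or_odd k with he | ho
  · obtain ⟨l, rfl⟩ := he
    have hl : l % 2 = 1 := by omega
    have h5 : 4 ∣ n * l := by
      have h6 : n * (l + l) = 2 * (n * l) := by ring
      rw [h6] at h
      omega
    refine Nat.Coprime.dvd_of_dvd_mul_right ?_ h5
    have : Nat.Coprime (2 ^ 2) l := Nat.Coprime.pow_left _ (by rw [Nat.coprime_two_left]; exact Nat.odd_iff.2 hl)
    simpa using this
  · have h5 : Nat.Coprime 8 k := by
      have : Nat.Coprime (2 ^ 3) k := Nat.Coprime.pow_left _ (by rw [Nat.coprime_two_left]; exact ho)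
      simpa using this
    have := h5.dvd_of_dvd_mul_right h
    omega

end arith

/-- commuting of elements of prime order in a fixed-point-free group -/
theorem commute_prime {H : Type*} [Group H] [Finite H] (h : HasFPF H) {p s : ℕ} (hp : p.Prime) (hs : s.Prime)
    (hps : s ≠ p) {w g : H} (hw : orderOf w = p) (hg : orderOf g = s) [hn : (zpowers w).Normal] :
    Commute g w := by
  set A := zpowers g ⊔ zpowers w with hA
  have hcard : Nat.card A = p * s := by
    have h4 : (zpowers w).relIndex A = (zpowers w ⊓ zpowers g).relIndex (zpowers g) := by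
      rw [Subgroup.inf_relIndex_right, hA]
      exact Subgroup.relIndex_sup_right _ _
    have h5 : zpowers w ⊓ zpowers g = ⊥ := by
      have h8 : Nat.card (zpowers w ⊓ zpowers g : Subgroup H) = 1 := by
        have h6 : Nat.card (zpowers w ⊓ zpowers g : Subgroup H) ∣ p := by
          rw [← hw, ← Nat.card_zpowers]; exact Subgroup.card_dvd_of_le inf_le_left
        have h7 : Nat.card (zpowers w ⊓ zpowers g : Subgroup H) ∣ s := by
          rw [← hg, ← Nat.card_zpowers]; exact Subgroup.card_dvd_of_le inf_le_right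
        exact Nat.dvd_one.1 (((Nat.coprime_primes hp hs).2 hps.symm) ▸ Nat.dvd_gcd h6 h7)
      exact Subgroup.eq_bot_of_card_eq _ h8
    rw [h5, Subgroup.relIndex_bot_left, Nat.card_zpowers, hg] at h4
    have h10 := (⊥ : Subgroup H).relIndex_mul_relIndex (zpowers w) A bot_le le_sup_right
    rw [Subgroup.relIndex_bot_left, Subgroup.relIndex_bot_left, Nat.card_zpowers, hw, h4] at h10
    exact h10.symm
  have hc := (h.subgroup A).isCyclic_of_card hp hs hcard
  have hwA : w ∈ A := (le_sup_right : zpowers w ≤ A) (mem_zpowers w)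
  have hgA : g ∈ A := (le_sup_left : zpowers g ≤ A) (mem_zpowers g)
  have h1 : (⟨g, hgA⟩ : A) * ⟨w, hwA⟩ = ⟨w, hwA⟩ * ⟨g, hgA⟩ := by
    let := hc.commGroup
    exact mul_comm _ _
  exact congrArg Subtype.val h1

/-- the 2-parts -/
theorem two_part {H : Type*} [Group H] [Finite H] (h : HasFPF H) {c : ℕ} (hc : 3 ≤ c)
    (hexp : ∀ (x : H) (a : ℕ), orderOf x = 2 ^ a → a ≤ c) {x y : H} (hx : orderOf x = 2 ^ c)
    (hy : orderOf y = 2 ^ c) (hxy : ∀ g z : H, z ∈ zpowers x → z ∈ zpowers (g * y * g⁻¹) → z ^ 2 = 1) : False := by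
  have h2 := Fact.mk Nat.prime_two
  have hx2 : IsPGroup 2 (zpowers x) := IsPGroup.of_card (n := c) (by rw [Nat.card_zpowers, hx])
  have hy2 : IsPGroup 2 (zpowers y) := IsPGroup.of_card (n := c) (by rw [Nat.card_zpowers, hy])
  obtain ⟨Q, hQ⟩ := hx2.exists_le_sylow
  obtain ⟨Q', hQ'⟩ := hy2.exists_le_sylow
  obtain ⟨g, hg⟩ := MulAction.exists_smul_eq H Q' Q
  have hxQ : x ∈ (Q : Subgroup H) := hQ (mem_zpowers x)
  set y' := g * y * g⁻¹ with hy'
  have hyQ : y' ∈ (Q : Subgroup H) := by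
    rw [← hg]
    have h3 : y ∈ (Q' : Subgroup H) := hQ' (mem_zpowers y)
    rw [Sylow.coe_subgroup_smul, Subgroup.mem_pointwise_smul_iff_inv_smul_mem]
    have h4 : (MulAut.conj g)⁻¹ • y' = y := by
      rw [← map_inv, MulAut.smul_def, MulAut.conj_apply, hy']; group
    rwa [h4]
  have hyo : orderOf y' = 2 ^ c := by
    rw [hy', ← hy]
    exact orderOf_injective (MulAut.conj g).toMonoidHom (MulAut.conj g).injective y
  -- the order of `Q`
  have hcardQ : Nat.card (Q : Subgroup H) ≤ 2 ^ (c + 1) := by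
    rcases (h.subgroup (Q : Subgroup H)).cyclic_or_quaternion Nat.prime_two Q.2 with hcy | ⟨-, n, ⟨e⟩⟩
    · obtain ⟨z, hz⟩ := hcy.exists_generator
      have h3 : orderOf z = Nat.card (Q : Subgroup H) := orderOf_eq_card_of_forall_mem_zpowers hz
      obtain ⟨a, ha⟩ := (IsPGroup.iff_card.1 Q.2)
      have h4 := hexp z a (by rw [Subgroup.orderOf_coe, h3]; exact ha)
      have h5 : Nat.card (Q : Subgroup H) = 2 ^ a := ha
      rw [h5]
      exact Nat.pow_le_pow_right (by norm_num) (by omega)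
    · have h3 : orderOf (QuaternionGroup.a 1 : QuaternionGroup (2 ^ n)) = 2 ^ (n + 1) := by
        rw [QuaternionGroup.orderOf_a_one, pow_succ, mul_comm]
      have h4 := hexp (e.symm (QuaternionGroup.a 1)) (n + 1) (by
        rw [Subgroup.orderOf_coe, MulEquiv.orderOf_eq, h3])
      have h5 : Nat.card (Q : Subgroup H) = 4 * 2 ^ n := by
        rw [Nat.card_congr e.toEquiv, Nat.card_eq_fintype_card, QuaternionGroup.card]
      rw [h5, show 4 * 2 ^ n = 2 ^ (n + 2) by rw [pow_add]; ring]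
      exact Nat.pow_le_pow_right (by norm_num) (by omega)
  set X : Subgroup (Q : Subgroup H) := zpowers ⟨x, hxQ⟩ with hX
  set Y : Subgroup (Q : Subgroup H) := zpowers ⟨y', hyQ⟩ with hY
  have hXc : Nat.card X = 2 ^ c := by rw [hX, Nat.card_zpowers, orderOf_mk, hx]
  have hYc : Nat.card Y = 2 ^ c := by rw [hY, Nat.card_zpowers, orderOf_mk, hyo]
  have hYi : Y.index ≤ 2 := by
    have h3 := Y.card_mul_index
    rw [hYc] at h3
    have h4 : 2 ^ c * Y.index ≤ 2 ^ c * 2 := by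
      rw [h3]; exact hcardQ
    exact Nat.le_of_mul_le_mul_left h4 (by positivity)
  have hr : Y.relIndex X ≤ 2 := by
    have h3 := Subgroup.relIndex_le_of_le_right (H := Y) (K := X) (L := ⊤) le_top (by
      rw [Subgroup.relIndex_top_right]; exact Subgroup.index_ne_zero_of_finite)
    rw [Subgroup.relIndex_top_right] at h3
    exact h3.trans hYi
  have hcap : Nat.card (Y ⊓ X : Subgroup (Q : Subgroup H)) ≤ 2 := by
    -- all elements have square one, in a cyclic group
    have hcy : IsCyclic (Y ⊓ X : Subgroup (Q : Subgroup H)) :=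
      isCyclic_of_injective (Subgroup.inclusion (inf_le_right : Y ⊓ X ≤ X)) (Subgroup.inclusion_injective _)
    obtain ⟨z, hz⟩ := hcy.exists_generator
    rw [← orderOf_eq_card_of_forall_mem_zpowers hz]
    apply Nat.le_of_dvd (by norm_num)
    apply orderOf_dvd_of_pow_eq_one
    apply Subtype.ext
    apply Subtype.ext
    obtain ⟨i, hi⟩ := mem_zpowers_iff.1 z.2.1
    obtain ⟨j, hj⟩ := mem_zpowers_iff.1 z.2.2
    exact hxy g ((z : (Q : Subgroup H)) : H) (mem_zpowers_iff.2 ⟨j, congrArg Subtype.val hj⟩)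
      (mem_zpowers_iff.2 ⟨i, congrArg Subtype.val hi⟩)
  have h6 := (⊥ : Subgroup (Q : Subgroup H)).relIndex_mul_relIndex (Y ⊓ X) X bot_le inf_le_right
  rw [Subgroup.relIndex_bot_left, Subgroup.relIndex_bot_left, Subgroup.inf_relIndex_right, hXc] at h6
  have h7 : 2 ^ c ≤ 2 * 2 := by
    rw [← h6]; exact Nat.mul_le_mul hcap hr
  have h8 : 2 ^ 3 ≤ 2 ^ c := Nat.pow_le_pow_right (by norm_num) hc
  omega

end Cfsg.Agent.H374.P4
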