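import Mathlib
import Cfsg.Agent.H374.P4.CompB

/-!
# Fixed-point-free groups: the contradiction
-/

set_option autoImplicit false

namespace Cfsg.Agent.H374.P4

open Subgroup Cfsg.Agent.H348 Cfsg.Agent.H379.P4 Cfsg.Agent.H374.Quad

variable {p q : ℕ}

/-- an element of order `m` has a power of order `d` -/
theorem exists_pow_order {H : Type*} [Group H] [Finite H] {x : H} {m d : ℕ} (hx : orderOf x = m) (hd : d ∣ m) :
    orderOf (x ^ (m / d)) = d := by
  have hm : 0 < m := hx ▸ orderOf_pos x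
  have hd0 : 0 < d := Nat.pos_of_dvd_of_pos hd hm
  have h1 : m / d ∣ orderOf x := by rw [hx]; exact Nat.div_dvd_of_dvd hd
  rw [orderOf_pow_of_dvd (Nat.div_pos (Nat.le_of_dvd hm hd) hd0).ne' h1, hx,
    Nat.div_div_self hd hm.ne']

/-- a number all of whose prime divisors are two -/
theorem eq_two_pow {n : ℕ} (h0 : n ≠ 0) (h : ∀ s : ℕ, s.Prime → s ∣ n → s = 2) : ∃ c, n = 2 ^ c :=
  ⟨_, Nat.eq_prime_pow_of_unique_prime_dvd h0 (fun {d} hd hdn => h d hd hdn)⟩

theorem main_case (hP : Par p q) {H : Type*} [Group H] [Finite H] (h : HasFPF H)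
    (hOm : ∀ x : H, Om p q (orderOf x)) (h1 : ∃ x : H, orderOf x = p * (q - 1))
    (h2 : ∃ x : H, orderOf x = p * (q + 1)) (h3 : ∃ x : H, orderOf x = E q) (hp5 : 5 ≤ p) : False := by
  have hp := hP.prime
  have hbig := hP.big
  have hpodd : Odd p := hp.odd_of_ne_two (by omega)
  obtain ⟨hq2, hg2⟩ : q % 2 = 1 ∧ Nat.gcd 2 (q - 1) = 2 := by
    rcases hP.parity with ⟨-, a, b⟩ | ⟨a, -, -⟩
    · exact ⟨a, b⟩
    · omega
  have hEe := E_eq hP
  rw [hg2] at hEe
  have hq7 : 7 ≤ q := by
    have := hP.ne; omega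
  obtain ⟨y, hy⟩ := h1
  obtain ⟨y', hy'⟩ := h2
  obtain ⟨x, hx⟩ := h3
  set w := y ^ (p * (q - 1) / p) with hwdef
  have hw : orderOf w = p := exists_pow_order hy (Dvd.intro _ rfl)
  have hyw : Commute y w := (Commute.refl y).pow_right _
  have h15 : p = 5 → ∃ z : H, orderOf z = 15 := by
    intro h5
    have h6 : ¬ 3 ∣ q := by
      intro h6
      obtain ⟨n, hn⟩ := hP.pow
      rw [hn] at h6
      have := Nat.prime_three.dvd_of_dvd_pow h6
      rw [h5] at this
      norm_num at this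
    have h7 : 3 ∣ q - 1 ∨ 3 ∣ q + 1 := by
      have h8 : q % 3 = 1 ∨ q % 3 = 2 := by omega
      rcases h8 with h8 | h8
      · left; omega
      · right; omega
    rcases h7 with h7 | h7
    · refine ⟨_, exists_pow_order (d := 15) hy ?_⟩
      rw [h5]
      obtain ⟨k, hk⟩ := h7
      exact ⟨k, by rw [hk]; ring⟩
    · refine ⟨_, exists_pow_order (d := 15) hy' ?_⟩
      rw [h5]
      obtain ⟨k, hk⟩ := h7
      exact ⟨k, by rw [hk]; ring⟩
  have huniq : ∀ w' : H, orderOf w' = p → w' ∈ zpowers w := fun w' hw' => unique_p h hp hp5 h15 hw hw'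
  have hconj : ∀ g z : H, orderOf (g * z * g⁻¹) = orderOf z := fun g z =>
    orderOf_injective (MulAut.conj g).toMonoidHom (MulAut.conj g).injective z
  have hwn : (zpowers w).Normal := by
    refine ⟨fun n hn g => ?_⟩
    obtain ⟨i, rfl⟩ := mem_zpowers_iff.1 hn
    rw [← conj_zpow]
    exact zpow_mem (huniq _ (by rw [hconj, hw])) i
  -- the action on `⟨w⟩`
  set ψ : H →* MulAut (zpowers w) := MulAut.conjNormal with hψ
  have hψ1 : ∀ g : H, ψ g = 1 ↔ Commute g w := by
    intro g
    constructor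
    · intro h4
      have h5 : ((ψ g ⟨w, mem_zpowers w⟩ : zpowers w) : H) = w := by rw [h4]; rfl
      rw [hψ, MulAut.conjNormal_apply] at h5
      exact mul_inv_eq_iff_eq_mul.1 h5
    · intro h4
      ext ⟨z, hz⟩
      obtain ⟨i, rfl⟩ := mem_zpowers_iff.1 hz
      rw [hψ, MulAut.conjNormal_apply]
      change g * w ^ i * g⁻¹ = w ^ i
      rw [(h4.zpow_right i).eq, mul_inv_cancel_right]
  have hcycw : IsCyclic (zpowers w) := inferInstance
  set k := orderOf (ψ x) with hk
  have hkp : k ∣ p - 1 := by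
    have h4 : k ∣ Nat.card (MulAut (zpowers w)) := orderOf_dvd_natCard _
    rwa [IsCyclic.card_mulAut, Nat.card_zpowers, hw, Nat.totient_prime hp] at h4
  have hkE : k ∣ E q := hx ▸ orderOf_map_dvd ψ x
  have hk0 : 0 < k := orderOf_pos _
  have hE0 : 0 < E q := by have := E_big hP; omega
  have hcomm : ∀ j : ℕ, Commute (x ^ j) w ↔ k ∣ j := by
    intro j
    rw [← hψ1, map_pow, hk, orderOf_dvd_iff_pow_eq_one]
  obtain ⟨n₁, hn₁⟩ := hkE
  have hn₁E : n₁ ∣ E q := ⟨k, by rw [hn₁]; ring⟩
  have hord : orderOf (x ^ k) = n₁ := by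
    have h4 : E q / n₁ = k := by
      rw [hn₁, Nat.mul_div_cancel]
      exact Nat.pos_of_ne_zero (by rintro rfl; omega)
    have h5 := exists_pow_order hx hn₁E
    rwa [h4] at h5
  have hpn : ¬ p ∣ n₁ := fun h4 => p_not_dvd_E hP (h4.trans hn₁E)
  -- `p n₁` is an element order
  have hor := om_p_mul hP hpn (by
    have h4 : Commute w (x ^ k) := ((hcomm k).2 dvd_rfl).symm
    have h5 := h4.orderOf_mul_eq_mul_orderOf_of_coprime
      (by rw [hw, hord]; exact (Nat.Prime.coprime_iff_not_dvd hp).2 hpn)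
    rw [hw, hord] at h5
    rw [← h5]
    exact hOm _)
  -- all primes of `E` divide `n₁`
  have hprime : ∀ s : ℕ, s.Prime → s ∣ E q → s ∣ n₁ := by
    intro s hs hsE
    have hsp : s ≠ p := by rintro rfl; exact p_not_dvd_E hP hsE
    have h4 := commute_prime h hp hs hsp hw (exists_pow_order hx hsE)
    rw [hcomm] at h4
    obtain ⟨l, hl⟩ := h4
    have h5 : E q / s * s = E q := Nat.div_mul_cancel hsE
    rw [hl, mul_assoc] at h5
    have h6 : l * s = n₁ := Nat.eq_of_mul_eq_mul_left hk0 (by rw [h5, ← hn₁])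
    exact ⟨l, by rw [← h6]; ring⟩
  have hsub := hP.sub_dvd
  rcases hor with hA | hB
  · -- `q + 1` is a power of two
    obtain ⟨c, hc⟩ := eq_two_pow (n := q + 1) (by omega) (by
      intro s hs hsd
      exact eq_two_of_dvd hs (by omega) ((hprime s hs (hsd.trans hsub.2)).trans hA) hsd)
    have hc3 : 3 ≤ c := by
      by_contra hlt
      have : 2 ^ c ≤ 2 ^ 2 := Nat.pow_le_pow_right (by norm_num) (by omega)
      omega
    have h8 : 8 ∣ q + 1 := by
      rw [hc]
      exact (pow_dvd_pow 2 hc3 : 2 ^ 3 ∣ 2 ^ c)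
    have hp4 : p % 4 = 3 := by
      obtain ⟨n, hn⟩ := hP.pow
      have h4 : p % 4 = 1 ∨ p % 4 = 3 := by
        have := Nat.odd_iff.1 hpodd; omega
      rcases h4 with h4 | h4
      · exfalso
        have h5 : q % 4 = 1 := by simp [hn, Nat.pow_mod, h4]
        omega
      · exact h4
    have hk4 : ¬ 4 ∣ k := by
      intro h4
      have := h4.trans hkp
      omega
    have h8E : 8 ∣ n₁ * k := by
      rw [mul_comm, ← hn₁]
      exact h8.trans hsub.2
    have h4n := (four_dvd h8E hk4).trans hA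
    omega
  · -- `q - 1` is a power of two
    obtain ⟨c, hc⟩ := eq_two_pow (n := q - 1) (by omega) (by
      intro s hs hsd
      exact eq_two_of_dvd hs (by omega) hsd ((hprime s hs (hsd.trans hsub.1)).trans hB))
    have hc3 : 3 ≤ c := by
      by_contra hlt
      have : 2 ^ c ≤ 2 ^ 2 := Nat.pow_le_pow_right (by norm_num) (by omega)
      omega
    obtain ⟨m, hm⟩ : ∃ m, q + 1 = 2 * m := ⟨(q + 1) / 2, by omega⟩
    have h8 : 8 ∣ q - 1 := by
      rw [hc]
      exact (pow_dvd_pow 2 hc3 : 2 ^ 3 ∣ 2 ^ c)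
    have hmo : Odd m := by rw [Nat.odd_iff]; omega
    have hEm : E q = 2 ^ c * m := by
      rw [hc, hm] at hEe
      have : E q * 2 = (2 ^ c * m) * 2 := by rw [hEe]; ring
      omega
    have hm0 : 0 < m := by omega
    -- the 2-parts
    have hx2 : orderOf (x ^ m) = 2 ^ c := by
      have h4 := exists_pow_order hx (d := 2 ^ c) (by rw [hEm]; exact Dvd.intro _ rfl)
      rwa [hEm, Nat.mul_div_cancel_left _ (by positivity)] at h4
    have hy2 : orderOf (y ^ p) = 2 ^ c := by
      have h4 := exists_pow_order hy (d := q - 1) (Dvd.intro_left _ rfl)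
      rwa [Nat.mul_div_cancel _ (by omega), hc] at h4
    have hk2 : 2 ^ (c - 1) ∣ k := by
      obtain ⟨n₂, hn₂⟩ := hB
      refine ⟨n₂, ?_⟩
      have h4 : n₁ * (2 ^ (c - 1) * n₂) = n₁ * k := by
        have h5 : 2 ^ c = 2 ^ (c - 1) * 2 := by rw [← pow_succ, Nat.sub_add_cancel (by omega)]
        calc n₁ * (2 ^ (c - 1) * n₂) = 2 ^ (c - 1) * (n₁ * n₂) := by ring
          _ = 2 ^ (c - 1) * 2 * m := by rw [← hn₂, hm]; ring
          _ = n₁ * k := by rw [← h5, ← hEm, hn₁]; ring
      have h5 : 0 < n₁ := Nat.pos_of_ne_zero (by rintro rfl; omega)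
      exact (Nat.eq_of_mul_eq_mul_left h5 h4).symm
    refine two_part h hc3 ?_ hx2 hy2 ?_
    · intro z a hz
      have h4 := hOm z
      rw [hz] at h4
      have h5 : 2 ^ a ∣ 2 ^ c * m := by
        have hcop : Nat.Coprime (2 ^ a) p := Nat.Coprime.pow_left _ (by rw [Nat.coprime_two_left]; exact hpodd)
        rcases h4 with h4 | h4 | h4 | h4 | ⟨h5, -⟩ | ⟨h5, -⟩
        · rw [← hEm]; exact (hcop.dvd_of_dvd_mul_left h4).trans hsub.1
        · rw [← hEm]; exact (hcop.dvd_of_dvd_mul_left h4).trans hsub.2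
        · rw [← hEm]; exact h4
        · have h6 : Nat.Coprime (2 ^ a) (R q) := Nat.Coprime.pow_left _ (by
            rw [Nat.coprime_two_left, Nat.odd_iff]; exact hP.R_odd)
          have h7 : 2 ^ a = 1 := Nat.dvd_one.1 (h6 ▸ Nat.dvd_gcd dvd_rfl h4)
          rw [h7]; exact one_dvd _
        · omega
        · omega
      have h6 : Nat.Coprime (2 ^ a) m := Nat.Coprime.pow_left _ (by rw [Nat.coprime_two_left]; exact hmo)
      exact (Nat.pow_dvd_pow_iff_le_right (by norm_num)).1 (h6.dvd_of_dvd_mul_right h5)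
    · intro g z hz1 hz2
      have h4 : Commute z w := by
        obtain ⟨i, rfl⟩ := mem_zpowers_iff.1 hz2
        apply Commute.zpow_left
        have h5 : Commute (g * y ^ p * g⁻¹) (g * w * g⁻¹) := by
          have h6 : Commute (y ^ p) w := hyw.pow_left p
          rw [commute_iff_eq]
          calc g * y ^ p * g⁻¹ * (g * w * g⁻¹) = g * (y ^ p * w) * g⁻¹ := by group
            _ = g * (w * y ^ p) * g⁻¹ := by rw [h6.eq]
            _ = g * w * g⁻¹ * (g * y ^ p * g⁻¹) := by group
        have h6 : w ∈ zpowers (g * w * g⁻¹) :=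
          unique_p h hp hp5 h15 (by rw [hconj, hw]) hw
        obtain ⟨j, hj⟩ := mem_zpowers_iff.1 h6
        rw [← hj]
        exact h5.zpow_right j
      rw [← mem_powers_iff_mem_zpowers] at hz1
      obtain ⟨j, hj⟩ := hz1
      have hj : (x ^ m) ^ j = z := hj
      rw [← hj, ← pow_mul, hcomm] at h4
      have h5 : 2 ^ (c - 1) ∣ j := by
        have h6 : Nat.Coprime (2 ^ (c - 1)) m := Nat.Coprime.pow_left _ (by rw [Nat.coprime_two_left]; exact hmo)
        exact h6.dvd_of_dvd_mul_left (hk2.trans h4)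
      obtain ⟨i, hi⟩ := h5
      rw [← hj, ← pow_mul, hi]
      have h6 : 2 ^ (c - 1) * i * 2 = orderOf (x ^ m) * i := by
        rw [hx2]
        have : 2 ^ c = 2 ^ (c - 1) * 2 := by rw [← pow_succ, Nat.sub_add_cancel (by omega)]
        rw [this]; ring
      rw [h6, pow_mul, pow_orderOf_eq_one, one_pow]

/-- **There is no fixed-point-free group with these element orders.** -/
theorem comp_false (hP : Par p q) {H : Type*} [Group H] [Finite H] (h : HasFPF H)
    (hOm : ∀ x : H, Om p q (orderOf x)) (h1 : ∃ x : H, orderOf x = p * (q - 1))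
    (h2 : ∃ x : H, orderOf x = p * (q + 1)) (h3 : ∃ x : H, orderOf x = E q)
    (h9 : p = 3 → ∃ x : H, orderOf x = 9) : False := by
  have hp := hP.prime
  have hbig := hP.big
  have h2' := Fact.mk Nat.prime_two
  have heven : 2 ∣ Nat.card H := by
    obtain ⟨x, hx⟩ := h1
    refine (?_ : 2 ∣ p * (q - 1)).trans (hx ▸ orderOf_dvd_natCard x)
    rcases hP.parity with ⟨-, h4, -⟩ | ⟨h4, -, -⟩
    · exact Dvd.dvd.mul_left (by omega) _
    · rw [h4]; exact Dvd.intro _ rfl
  obtain ⟨t, ht⟩ := exists_prime_orderOf_dvd_card' (G := H) 2 heven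
  have ht2 : t * t = 1 := by rw [← pow_two, ← ht, pow_orderOf_eq_one]
  have ht1 : t ≠ 1 := by rintro rfl; rw [orderOf_one] at ht; omega
  have hc := h.mem_center ht2 ht1
  have key : ∀ x : H, Odd (orderOf x) → Om p q (2 * orderOf x) := by
    intro x hx
    have h4 : Commute t x := by
      have := (Subgroup.mem_center_iff.1 hc x)
      exact this.symm
    have h5 := h4.orderOf_mul_eq_mul_orderOf_of_coprime (by rw [ht, Nat.coprime_two_left]; exact hx)
    rw [ht] at h5
    rw [← h5]
    exact hOm _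
  rcases Nat.lt_or_ge p 5 with hlt | hge
  · have h4 : p = 2 ∨ p = 3 := by
      have := hp.two_le
      have h4 : p ≠ 4 := by rintro rfl; exact absurd hp (by norm_num)
      omega
    rcases h4 with rfl | rfl
    · obtain ⟨x, hx⟩ := h3
      have h4 : Odd (orderOf x) := by
        rw [hx, Nat.odd_iff]
        have := p_not_dvd_E hP
        omega
      have := key x h4
      rw [hx] at this
      exact not_om_p_E hP this
    · obtain ⟨x, hx⟩ := h9 rfl
      have := key x (by rw [hx]; decide)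
      rw [hx] at this
      exact not_om_eighteen hP this
  · exact main_case hP h hOm h1 h2 h3 hge

end Cfsg.Agent.H374.P4
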