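import Mathlib
import Cfsg.Agent.H374.R.Rad
import Cfsg.Agent.H374.R.Cent
import Cfsg.Agent.H371.FrobCover
import Cfsg.Agent.H374.P4.CompC

/-!
# The solvable radical of a group with the spectrum of `PSp₄(q)`
-/

set_option autoImplicit false

namespace Cfsg.Agent.H374.P4

open Subgroup Cfsg Cfsg.Agent.H466.Split Cfsg.Agent Cfsg.Agent.H374.R Finset
open Cfsg.Agent.H348 Cfsg.Agent.H379.P4 Cfsg.Agent.H374.Quad
open scoped commutatorElement

universe u v

/-- fixed-point-free actions on groups in any universe -/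
theorem hasFPF_mk {H : Type v} [Group H] {V : Type u} [CommGroup V] [Finite V] [Nontrivial V] (φ : H →* MulAut V)
    (h : ∀ a : H, a ≠ 1 → ∀ v : V, φ a v = v → v = 1) : HasFPF H := by
  have e : Shrink.{0} V ≃* V := Shrink.mulEquiv
  have hnt : Nontrivial (Shrink.{0} V) := e.toEquiv.nontrivial
  have hf : Finite (Shrink.{0} V) := Finite.of_equiv V e.symm.toEquiv
  refine ⟨Shrink.{0} V, inferInstance, hf, hnt, (MulAut.congr e.symm).toMonoidHom.comp φ, ?_⟩
  intro a ha v hv
  have h1 : φ a (e v) = e v := by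
    have h2 : e.symm (φ a (e v)) = v := hv
    have h3 := congrArg e h2
    rwa [MulEquiv.apply_symm_apply] at h3
  have h2 := h a ha _ h1
  exact (map_eq_one_iff e e.injective).1 h2

variable {p q : ℕ}

/-- the primes of the isolated torus -/
def A (q : ℕ) : Set ℕ := {r | r ∣ R q}

theorem spl (hP : Par p q) {G : Type u} [Group G] (hOm : ∀ g : G, Om p q (orderOf g)) : Spl (A q) G := by
  intro g
  rcases hP.om_cases (hOm g) with h | h
  · left
    intro r hr hd
    exact hd.trans h
  · right
    intro r hr hd hrA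
    exact hr.one_lt.ne' (Nat.dvd_one.1 (hP.coprime_lam h ▸ Nat.dvd_gcd hrA hd))

theorem p_not_mem (hP : Par p q) : p ∉ A q := fun h =>
  hP.prime.one_lt.ne' (Nat.dvd_one.1 (hP.coprime_p ▸ Nat.dvd_gcd h dvd_rfl))

theorem not_mem_of_dvd_E (hP : Par p q) {r : ℕ} (hr : r.Prime) (h : r ∣ E q) : r ∉ A q := fun h1 =>
  hr.one_lt.ne' (Nat.dvd_one.1 (hP.coprime_E ▸ Nat.dvd_gcd h1 h))

theorem om_R {m : ℕ} (h : m ∣ R q) : Om p q m := Or.inr (Or.inr (Or.inr (Or.inl h)))

theorem om_E {m : ℕ} (h : m ∣ E q) : Om p q m := Or.inr (Or.inr (Or.inl h))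

/-- **Fixed points on the centre of a nilpotent normal subgroup.** `V = ⟨v⟩` of prime order `e` is normal in `G ⧸ N`;
an element `x` outside acts on `⟨v⟩` such that no nontrivial power of its image centralises `v`. -/
theorem exists_fixed {B : Set ℕ} {G : Type u} [Group G] [Finite G] (hs : Spl B G) (N : Subgroup G) [N.Normal]
    (hNil : Group.IsNilpotent N) (hNB : ∀ r : ℕ, r.Prime → r ∣ Nat.card N → r ∉ B) {e : ℕ} (he : e.Prime) (heB : e ∈ B)
    {v : G ⧸ N} (hv : orderOf v = e) (hn : ∀ g : G ⧸ N, g * v * g⁻¹ ∈ zpowers v) {s : ℕ} (hsp : s.Prime)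
    (hsN : s ∣ Nat.card N) {x : G} (hx : ∀ r : ℕ, r.Prime → r ∣ orderOf x → r ∉ B) :
    ∃ z ∈ N, orderOf z = s ∧ Commute x z := by
  have hsQ : Spl B (G ⧸ N) := hs.quotient N
  have hsB : s ∉ B := hNB s hsp hsN
  obtain ⟨v0, hv0⟩ := Cent.exists_ne hNil hsp hsN
  set c : G ⧸ N := (x : G ⧸ N) with hc
  have hxc : ∀ r : ℕ, r.Prime → r ∣ orderOf c → r ∉ B := fun r hr hd =>
    hx r hr (hd.trans (orderOf_map_dvd (QuotientGroup.mk' N) x))
  have hvB : ∀ r : ℕ, r.Prime → r ∣ orderOf v → r ∈ B := by
    intro r hr hd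
    rw [hv] at hd
    rwa [(Nat.prime_dvd_prime_iff_eq hr he).1 hd]
  have hv1 : v ≠ 1 := by
    rintro rfl; rw [orderOf_one] at hv; exact he.one_lt.ne hv
  -- no nontrivial power of `c` commutes with a nontrivial element of `⟨v⟩`
  have hfree : ∀ i, 0 < i → i < orderOf c → ∀ a ∈ zpowers v, c ^ i * a = a * c ^ i → a = 1 := by
    intro i hi hi' a ha hcomm
    by_contra ha1
    refine hsQ.not_commute' (x := a) (y := c ^ i) ?_ ?_ ha1 ?_ ?_
    · intro r hr hd
      exact hvB r hr (hd.trans (orderOf_dvd_of_mem_zpowers ha))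
    · intro r hr hd
      exact hxc r hr (hd.trans (orderOf_pow_dvd i))
    · intro h
      exact absurd (Nat.le_of_dvd hi (orderOf_dvd_of_pow_eq_one h)) (not_le.2 hi')
    · exact hcomm.symm
  by_cases hN : ∀ w : Cent.N N s, ∏ i ∈ range (orderOf c), Cent.act N s (c ^ i) w = 1
  · exfalso
    have hn' : ∀ (g : G ⧸ N), ∀ a ∈ zpowers v, g * a * g⁻¹ ∈ zpowers v := by
      intro g a ha
      obtain ⟨k, rfl⟩ := mem_zpowers_iff.1 ha
      rw [← conj_zpow]
      exact zpow_mem (hn g) k
    have h1 := Cfsg.Agent.H371.Frob.trivial_of_norm (Cent.act N s) (zpowers v) (c := c) (m := orderOf c) (e := s)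
      (orderOf_pos c) (fun a ha i => by
        have := hn' (c ^ i)⁻¹ a ha
        rwa [inv_inv] at this) hfree (fun w => Cent.N_pow w) (by
        rw [Nat.card_zpowers, hv]
        exact (Nat.coprime_primes he hsp).2 (by rintro rfl; exact hsB heB)) hN v (mem_zpowers v) v0
    obtain ⟨b, hb⟩ := QuotientGroup.mk_surjective v
    rw [← hb] at h1
    have h2 : b * (v0 : G) * b⁻¹ = v0 := by
      rw [← Cent.act_mk, h1]
    have h3 : Commute b (v0 : G) := mul_inv_eq_iff_eq_mul.1 h2
    have hv0' : (v0 : G) ≠ 1 := fun h => hv0 (Subtype.ext h)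
    have h4 : orderOf (v0 : G) = s := by
      have := Fact.mk hsp
      exact orderOf_eq_prime v0.2.2.2 hv0'
    refine hs.not_commute he hsp heB hsB (x := b) (y := (v0 : G)) ?_ (by rw [h4]) (orderOf_pos b).ne'
      (orderOf_pos _).ne' h3
    rw [← hv, ← hb]
    exact orderOf_map_dvd (QuotientGroup.mk' N) b
  · push Not at hN
    obtain ⟨w, hw⟩ := hN
    set z := ∏ i ∈ range (orderOf c), Cent.act N s (c ^ i) w with hz
    have h1 : Cent.act N s c z = z := by
      have h2 : ∀ k, Cent.act N s c (∏ i ∈ range k, Cent.act N s (c ^ i) w) * w =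
          (∏ i ∈ range k, Cent.act N s (c ^ i) w) * Cent.act N s (c ^ k) w := by
        intro k
        rw [← Finset.prod_range_succ, Finset.prod_range_succ', map_prod, pow_zero, map_one, MulAut.one_apply]
        congr 1
        apply Finset.prod_congr rfl
        intro i _
        rw [pow_succ', map_mul, MulAut.mul_apply]
      have h3 := h2 (orderOf c)
      rw [pow_orderOf_eq_one, map_one, MulAut.one_apply] at h3
      exact mul_right_cancel h3
    refine ⟨z, z.2.1, ?_, ?_⟩
    · have := Fact.mk hsp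
      exact orderOf_eq_prime z.2.2.2 (fun h => hw (Subtype.ext h))
    · have h2 : x * (z : G) * x⁻¹ = z := by
        rw [← Cent.act_mk, ← hc, h1]
      exact mul_inv_eq_iff_eq_mul.1 h2

/-- a prime-order normal subgroup: the order of an element without commuting powers divides `e - 1` -/
theorem orderOf_dvd_sub_one {Q : Type*} [Group Q] [Finite Q] {e : ℕ} (he : e.Prime) {v x : Q} (hv : orderOf v = e)
    (hn : (zpowers v).Normal) (hx : ∀ i : ℕ, Commute (x ^ i) v → x ^ i = 1) : orderOf x ∣ e - 1 := by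
  have hcy : IsCyclic (zpowers v) := inferInstance
  set ψ : Q →* MulAut (zpowers v) := MulAut.conjNormal with hψ
  have h1 : orderOf x ∣ orderOf (ψ x) := by
    apply orderOf_dvd_of_pow_eq_one
    apply hx
    have h2 : ψ (x ^ orderOf (ψ x)) = 1 := by rw [map_pow, pow_orderOf_eq_one]
    have h3 : ((ψ (x ^ orderOf (ψ x)) ⟨v, mem_zpowers v⟩ : zpowers v) : Q) = v := by rw [h2]; rfl
    rw [hψ, MulAut.conjNormal_apply] at h3
    exact mul_inv_eq_iff_eq_mul.1 h3
  have h4 : orderOf (ψ x) ∣ Nat.card (MulAut (zpowers v)) := orderOf_dvd_natCard _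
  rw [IsCyclic.card_mulAut, Nat.card_zpowers, hv, Nat.totient_prime he] at h4
  exact h1.trans h4

/-- a number all of whose prime divisors are congruent to one -/
theorem modEq_one {n k : ℕ} (hn : n ≠ 0) (h : ∀ r : ℕ, r.Prime → r ∣ n → r ≡ 1 [MOD k]) : n ≡ 1 [MOD k] := by
  induction n using Nat.recOnMul with
  | zero => exact absurd rfl hn
  | one => rfl
  | prime r hr => exact h r hr dvd_rfl
  | mul a b iha ihb =>
    have ha : a ≠ 0 := by rintro rfl; simp at hn
    have hb : b ≠ 0 := by rintro rfl; simp at hn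
    have h1 := iha ha (fun r hr hd => h r hr (hd.mul_right b))
    have h2 := ihb hb (fun r hr hd => h r hr (hd.mul_left a))
    simpa using h1.mul h2

/-- subgroups of prime order `r ∈ B` of `G ⧸ N` are normal -/
theorem normal_prime {B : Set ℕ} {G : Type u} [Group G] [Finite G] (hs : Spl B G) (N : Subgroup G) [N.Normal]
    (hN1 : N ≠ ⊥) (hNB : ∀ r : ℕ, r.Prime → r ∣ Nat.card N → r ∈ Bᶜ) (C : Subgroup (G ⧸ N))
    (hcomm : ∀ g h : G ⧸ N, ⁅g, h⁆ ∈ C) (hCB : ∀ g ∈ C, ∀ r : ℕ, r.Prime → r ∣ orderOf g → r ∈ B) {r u : ℕ}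
    (hr : r.Prime) (hrB : r ∈ B) {b : G ⧸ N} (hb : orderOf b = r) (hu : u.Prime) (huB : u ∉ B) {w : G ⧸ N}
    (hw : orderOf w = u) : (zpowers b).Normal := by
  have hsQ : Spl B (G ⧸ N) := hs.quotient N
  have hsc : Spl Bᶜ G := hs.compl
  set D : Subgroup (G ⧸ N) := C ⊔ zpowers b with hD
  have hDn : D.Normal := by
    refine ⟨fun d hd g => ?_⟩
    have h4 : g * d * g⁻¹ = ⁅g, d⁆ * d := by rw [commutatorElement_def]; group
    rw [h4]
    exact D.mul_mem (le_sup_left (a := C) (hcomm g d)) hd
  have hCn : C.Normal := by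
    refine ⟨fun d hd g => ?_⟩
    have h4 : g * d * g⁻¹ = ⁅g, d⁆ * d := by rw [commutatorElement_def]; group
    rw [h4]
    exact C.mul_mem (hcomm g d) hd
  have hDA : ∀ r : ℕ, r.Prime → r ∣ Nat.card D → r ∈ B := by
    have hDm : D.map (QuotientGroup.mk' C) ≤ zpowers (QuotientGroup.mk' C b) := by
      rw [hD, Subgroup.map_sup, MonoidHom.map_zpowers]
      refine sup_le ?_ le_rfl
      rw [Subgroup.map_le_iff_le_comap]
      intro c hc
      rw [Subgroup.mem_comap, show QuotientGroup.mk' C c = 1 from (QuotientGroup.eq_one_iff c).2 hc]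
      exact one_mem _
    refine Rad.sub_mem ?_
    intro d hd s hs' hsd
    have h6 : d ^ r ∈ C := by
      rw [← QuotientGroup.eq_one_iff]
      obtain ⟨k, hk⟩ := Subgroup.mem_zpowers_iff.1 (hDm (Subgroup.mem_map_of_mem _ hd))
      have h7 : ((d : G ⧸ N) : (G ⧸ N) ⧸ C) = (QuotientGroup.mk' C b) ^ k := hk.symm
      rw [QuotientGroup.mk_pow, h7, ← zpow_natCast, ← zpow_mul, mul_comm, zpow_mul, zpow_natCast, ← map_pow,
        ← hb, pow_orderOf_eq_one, map_one, one_zpow]
    by_cases hsr : s = r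
    · rw [hsr]; exact hrB
    · refine hCB _ h6 s hs' ?_
      have h7 : orderOf d ∣ r * orderOf (d ^ r) := by
        apply orderOf_dvd_of_pow_eq_one
        rw [pow_mul, pow_orderOf_eq_one]
      rcases hs'.dvd_mul.1 (hsd.trans h7) with h8 | h8
      · exact absurd ((Nat.prime_dvd_prime_iff_eq hs' hr).1 h8) hsr
      · exact h8
  have hDnil : Group.IsNilpotent D := by
    refine nilpotent_of_prime hsQ.compl D ?_ hu huB hw
    intro s hs' hd hn
    exact hn (hDA s hs' hd)
  have hbD : b ∈ D := le_sup_right (a := C) (mem_zpowers _)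
  refine ⟨fun n hn g => ?_⟩
  obtain ⟨k, rfl⟩ := mem_zpowers_iff.1 hn
  rw [← conj_zpow]
  refine zpow_mem ?_ k
  refine Rad.unique_prime_quot hsc N hN1 hNB D (fun s hs' hd hn => hn (hDA s hs' hd)) hDnil hr hbD
    (hDn.conj_mem _ hbD g) hb ?_
  rw [conj_pow, ← hb, pow_orderOf_eq_one]; group

/-- **Solvable normal subgroups are `A'`-groups.** -/
theorem rad (hP : Par p q) {G : Type u} [Group G] [Finite G] (hOm : ∀ g : G, Om p q (orderOf g))
    (hex : ∀ m, Om p q m → ∃ g : G, orderOf g = m) (K : Subgroup G) [hKn : K.Normal] (hK : Group.IsSolvable K) :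
    ∀ r : ℕ, r.Prime → r ∣ Nat.card K → r ∉ A q := by
  intro r hr hrK hrA
  have hs : Spl (A q) G := spl hP hOm
  have hp := hP.prime
  have hbig := hP.big
  have hpA := p_not_mem hP
  have h2A : 2 ∉ A q := hP.two
  -- the largest normal `A'`-subgroup in `K`
  have hch := OddOrderLocal.PiCore.piCore_characteristic (G := G) (A q)ᶜ
  set N : Subgroup G := piCore (A q)ᶜ G ⊓ K with hNdef
  have hNn : N.Normal := inferInstance
  have hNA : ∀ r : ℕ, r.Prime → r ∣ Nat.card N → r ∈ (A q)ᶜ := by
    intro r hr hd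
    refine OddOrderLocal.PiCore.piCore_isPi (G := G) (A q)ᶜ r hr (hd.trans ?_)
    exact Subgroup.card_dvd_of_le inf_le_left
  have hNK : N ≤ K := inf_le_right
  set π := QuotientGroup.mk' N with hπ
  have hπs : Function.Surjective π := QuotientGroup.mk'_surjective N
  have hker : π.ker = N := QuotientGroup.ker_mk' N
  have hsQ : Spl (A q) (G ⧸ N) := hs.quotient N
  set Kb : Subgroup (G ⧸ N) := K.map π with hKb
  have hKbn : Kb.Normal := Subgroup.Normal.map hKn π hπs
  have hKbs : Group.IsSolvable Kb := by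
    have := hK
    exact Group.isSolvable_of_surjective (f := π.subgroupMap K) (π.subgroupMap_surjective K)
  have hKb1 : Kb ≠ ⊥ := by
    intro h
    rw [hKb, Subgroup.map_eq_bot_iff, hker] at h
    have : K = N := le_antisymm h hNK
    rw [this] at hrK
    exact hNA r hr hrK hrA
  -- a minimal normal subgroup
  obtain ⟨V, hVn, hV1, hVK, hmin⟩ : ∃ V : Subgroup (G ⧸ N), V.Normal ∧ V ≠ ⊥ ∧ V ≤ Kb ∧
      ∀ L : Subgroup (G ⧸ N), L.Normal → L ≤ V → L = ⊥ ∨ L = V := by
    have hfin : {V : Subgroup (G ⧸ N) | V.Normal ∧ V ≠ ⊥ ∧ V ≤ Kb}.Finite := Set.toFinite _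
    obtain ⟨V, ⟨hVn, hV0, hVK⟩, hVmin⟩ := hfin.exists_minimal ⟨Kb, hKbn, hKb1, le_rfl⟩
    refine ⟨V, hVn, hV0, hVK, ?_⟩
    intro L hL hLV
    by_cases hL0 : L = ⊥
    · exact Or.inl hL0
    · exact Or.inr (le_antisymm hLV (hVmin ⟨hL, hL0, hLV.trans hVK⟩ hLV))
  have hVs : Group.IsSolvable V := by
    have := hKbs
    exact Group.isSolvable_of_isSolvable_injective (f := Subgroup.inclusion hVK) (Subgroup.inclusion_injective hVK)
  have hab : ∀ x ∈ V, ∀ y ∈ V, Commute x y := by
    have h1 : (⁅V, V⁆ : Subgroup (G ⧸ N)).Normal := inferInstance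
    rcases hmin _ h1 (Subgroup.commutator_le_self V) with h2 | h2
    · intro x hx y hy
      rw [Subgroup.commutator_eq_bot_iff_le_centralizer] at h2
      exact (Subgroup.mem_centralizer_iff.1 (h2 hx) y hy).symm
    · exfalso
      apply hV1
      have h3 : ∀ n, (derivedSeries V n).map V.subtype = V := by
        intro n
        induction n with
        | zero => rw [derivedSeries_zero, ← MonoidHom.range_eq_map, Subgroup.range_subtype]
        | succ n ih => rw [derivedSeries_succ, Subgroup.map_commutator, ih, h2]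
      obtain ⟨n, hn⟩ := (Group.isSolvable_def V).1 hVs
      rw [← h3 n, hn, Subgroup.map_bot]
  obtain ⟨e, he, hpg, hexp⟩ := Cfsg.Agent.Lib.MinNormalNonabelian.abelian_structure V hV1 hmin hab
  have hVe : ∀ r : ℕ, r.Prime → r ∣ Nat.card V → r = e := by
    intro r hr hd
    have := Fact.mk hr
    obtain ⟨v, hv⟩ := exists_prime_orderOf_dvd_card' (G := V) r hd
    have h1 : r ∣ e := by
      rw [← hv, ← Subgroup.orderOf_coe]
      exact orderOf_dvd_of_pow_eq_one (hexp v v.2)
    exact (Nat.prime_dvd_prime_iff_eq hr he).1 h1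
  have heA : e ∈ A q := by
    by_contra heA
    -- the preimage of `V` would be larger than `N`
    have h1 : V.comap π ≤ N := by
      change V.comap π ≤ piCore (A q)ᶜ G ⊓ K
      refine le_inf ?_ ?_
      · refine OddOrderLocal.PiCore.le_piCore (hVn.comap π) ?_
        intro r hr hd
        have := Fact.mk hr
        obtain ⟨g, hg⟩ := exists_prime_orderOf_dvd_card' (G := ↥(V.comap π)) r hd
        by_cases hgN : (g : G) ∈ N
        · exact order_mem (A := (A q)ᶜ) hNA hgN r hr (by rw [Subgroup.orderOf_coe, hg])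
        · have h2 : orderOf (π (g : G)) = r := by
            refine orderOf_eq_prime ?_ ?_
            · rw [← map_pow, ← hg, ← Subgroup.orderOf_coe, pow_orderOf_eq_one, map_one]
            · intro h
              exact hgN ((QuotientGroup.eq_one_iff _).1 h)
          have h3 : r ∣ e := by
            rw [← h2]
            exact orderOf_dvd_of_pow_eq_one (hexp _ g.2)
          rw [(Nat.prime_dvd_prime_iff_eq hr he).1 h3]
          exact heA
      · have h2 : V.comap π ≤ Kb.comap π := Subgroup.comap_mono hVK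
        rwa [hKb, Subgroup.comap_map_eq, hker, sup_eq_left.2 hNK] at h2
    apply hV1
    rw [← Subgroup.map_comap_eq_self_of_surjective hπs V, Subgroup.map_eq_bot_iff, hker]
    exact h1
  obtain ⟨v, hv1⟩ := (Subgroup.ne_bot_iff_exists_ne_one).1 hV1
  have hv1' : (v : G ⧸ N) ≠ 1 := fun h => hv1 (Subtype.ext h)
  have hvo : orderOf (v : G ⧸ N) = e := by
    have := Fact.mk he
    exact orderOf_eq_prime (hexp v v.2) hv1'
  -- its centralizer is an `A`-group
  set C : Subgroup (G ⧸ N) := centralizer (V : Set (G ⧸ N)) with hC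
  have hCn : C.Normal := inferInstance
  have hCA' : ∀ g ∈ C, ∀ r : ℕ, r.Prime → r ∣ orderOf g → r ∈ A q := by
    intro g hg
    exact Rad.cent_elt hsQ hv1' (Rad.prime_mem he hvo heA) (Subgroup.mem_centralizer_iff.1 hg v v.2).symm
  have hCA : ∀ r : ℕ, r.Prime → r ∣ Nat.card C → r ∈ A q := Rad.sub_mem hCA'
  -- the elements
  obtain ⟨x1, hx1⟩ := hex _ (Or.inl dvd_rfl : Om p q (p * (q - 1)))
  obtain ⟨x2, hx2⟩ := hex _ (Or.inr (Or.inl dvd_rfl) : Om p q (p * (q + 1)))
  obtain ⟨x3, hx3⟩ := hex _ (om_E dvd_rfl : Om p q (E q))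
  have hEprime : ∀ r : ℕ, r.Prime → r ∣ p * E q → r ∉ A q := by
    intro r hr hd
    rcases hr.dvd_mul.1 hd with h1 | h1
    · rw [(Nat.prime_dvd_prime_iff_eq hr hp).1 h1]; exact hpA
    · exact not_mem_of_dvd_E hP hr h1
  have hx1A : ∀ r : ℕ, r.Prime → r ∣ orderOf x1 → r ∉ A q := fun r hr hd =>
    hEprime r hr (hd.trans (hx1 ▸ Nat.mul_dvd_mul_left p hP.sub_dvd.1))
  have hx2A : ∀ r : ℕ, r.Prime → r ∣ orderOf x2 → r ∉ A q := fun r hr hd =>
    hEprime r hr (hd.trans (hx2 ▸ Nat.mul_dvd_mul_left p hP.sub_dvd.2))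
  have hx3A : ∀ r : ℕ, r.Prime → r ∣ orderOf x3 → r ∉ A q := fun r hr hd =>
    hEprime r hr (hd.trans (hx3 ▸ Dvd.intro_left _ rfl))
  by_cases hN1 : N = ⊥
  · -- a fixed-point-free group
    have hinj : Function.Injective π := by
      rw [← MonoidHom.ker_eq_bot_iff, hker, hN1]
    have h2dvd : 2 ∣ p * (q - 1) := by
      rcases hP.parity with ⟨-, h4, -⟩ | ⟨h4, -, -⟩
      · exact Dvd.dvd.mul_left (by omega) _
      · rw [h4]; exact Dvd.intro _ rfl
    have ht := exists_pow_order hx1 h2dvd
    set t := x1 ^ (p * (q - 1) / 2) with htdef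
    have ht' : orderOf (π t) = 2 := by rw [orderOf_injective π hinj, ht]
    -- `t` inverts `V`
    have htV : ∀ w ∈ V, π t * w * (π t)⁻¹ = w⁻¹ := by
      intro w hw
      have htt : π t * π t = 1 := by rw [← pow_two, ← ht', pow_orderOf_eq_one]
      set w' := π t * w * (π t)⁻¹ with hw'
      have hw'V : w' ∈ V := hVn.conj_mem w hw _
      have h4 : π t * (w * w') * (π t)⁻¹ = w * w' := by
        have h5 : π t * w' * (π t)⁻¹ = w := by
          rw [hw']
          have : π t * (π t * w * (π t)⁻¹) * (π t)⁻¹ = (π t * π t) * w * (π t * π t)⁻¹ := by group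
          rw [this, htt]; group
        calc π t * (w * w') * (π t)⁻¹ = (π t * w * (π t)⁻¹) * (π t * w' * (π t)⁻¹) := by group
          _ = w' * w := by rw [h5]
          _ = w * w' := (hab w' hw'V w hw).eq
      have h6 : w * w' = 1 := by
        by_contra hne
        refine hsQ.not_commute' (x := w * w') (y := π t) ?_ ?_ hne ?_ ?_
        · exact order_mem (A := A q) (fun r hr hd => by rw [hVe r hr hd]; exact heA) (V.mul_mem hw hw'V)
        · exact Rad.prime_mem (S := (A q)ᶜ) Nat.prime_two ht' h2A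
        · intro h; rw [h, orderOf_one] at ht'; omega
        · exact (mul_inv_eq_iff_eq_mul.1 h4).symm
      exact eq_inv_of_mul_eq_one_right h6
    have hcomm : ∀ g : G ⧸ N, ⁅π t, g⁆ ∈ C := by
      intro g
      rw [hC, Subgroup.mem_centralizer_iff]
      intro w hw
      have hgw : g⁻¹ * w * g ∈ V := by
        have := hVn.conj_mem w hw g⁻¹
        rwa [inv_inv] at this
      have hti : ∀ W ∈ V, (π t)⁻¹ * W * π t = W⁻¹ := by
        intro W hW
        have h7 := htV (W⁻¹) (V.inv_mem hW)
        rw [inv_inv] at h7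
        calc (π t)⁻¹ * W * π t = (π t)⁻¹ * (π t * W⁻¹ * (π t)⁻¹) * π t := by rw [h7]
          _ = W⁻¹ := by group
      have e2 : ⁅π t, g⁆ * w * (⁅π t, g⁆)⁻¹ = w := by
        rw [commutatorElement_def]
        calc π t * g * (π t)⁻¹ * g⁻¹ * w * (π t * g * (π t)⁻¹ * g⁻¹)⁻¹
            = π t * (g * ((π t)⁻¹ * (g⁻¹ * w * g) * π t) * g⁻¹) * (π t)⁻¹ := by group
          _ = π t * w⁻¹ * (π t)⁻¹ := by rw [hti _ hgw]; group
          _ = w := by rw [htV _ (V.inv_mem hw), inv_inv]
      exact (mul_inv_eq_iff_eq_mul.1 e2).symm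
    -- the quotient by `C`
    set σ : G →* (G ⧸ N) ⧸ C := (QuotientGroup.mk' C).comp π with hσ
    have hσs : Function.Surjective σ := (QuotientGroup.mk'_surjective C).comp hπs
    have hOmQ : ∀ z : (G ⧸ N) ⧸ C, Om p q (orderOf z) := by
      intro z
      obtain ⟨g, rfl⟩ := hσs z
      exact (hOm g).of_dvd (orderOf_map_dvd σ g)
    have hord : ∀ g : G, (∀ r : ℕ, r.Prime → r ∣ orderOf g → r ∉ A q) → orderOf (σ g) = orderOf g := by
      intro g hg
      apply Nat.dvd_antisymm (orderOf_map_dvd σ g)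
      apply orderOf_dvd_of_pow_eq_one
      have h4 : π (g ^ orderOf (σ g)) ∈ C := by
        rw [← QuotientGroup.eq_one_iff]
        change σ (g ^ orderOf (σ g)) = 1
        rw [map_pow, pow_orderOf_eq_one]
      apply hinj
      rw [map_one]
      refine eq_one_of_both (A := A q) (hCA' _ h4) ?_
      intro r hr hd
      exact hg r hr (hd.trans ((orderOf_map_dvd π _).trans (orderOf_pow_dvd _)))
    have hQA : ∀ r : ℕ, r.Prime → r ∣ Nat.card ((G ⧸ N) ⧸ C) → r ∉ A q := by
      intro r hr hd hrA
      have := Fact.mk hr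
      obtain ⟨z, hz⟩ := exists_prime_orderOf_dvd_card' (G := (G ⧸ N) ⧸ C) r hd
      obtain ⟨g, rfl⟩ := QuotientGroup.mk'_surjective C z
      have hcm : Commute (σ t) (QuotientGroup.mk' C g) := by
        have h4 := hcomm g
        rw [← QuotientGroup.eq_one_iff] at h4
        rw [← commutatorElement_eq_one_iff_commute]
        rw [commutatorElement_def] at h4 ⊢
        exact h4
      have hσt : orderOf (σ t) = 2 := by
        rw [hord t (Rad.prime_mem (S := (A q)ᶜ) Nat.prime_two ht h2A), ht]
      have hr2 : r ≠ 2 := by rintro rfl; exact h2A hrA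
      have h5 := hcm.orderOf_mul_eq_mul_orderOf_of_coprime (by
        rw [hσt, hz]; exact (Nat.coprime_primes Nat.prime_two hr).2 hr2.symm)
      rw [hσt, hz] at h5
      have h6 := hOmQ (σ t * QuotientGroup.mk' C g)
      rw [h5] at h6
      have h7 := hP.om_coprime h6 ⟨r, hr, hrA, Dvd.intro_left _ rfl⟩
      exact h2A ((Dvd.intro _ rfl).trans h7)
    have hVab : ∀ a b : V, a * b = b * a := fun a b => Subtype.ext (hab a a.2 b b.2)
    let _ : CommGroup V := { (inferInstance : Group V) with mul_comm := hVab }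
    have hVnt : Nontrivial V := ⟨v, 1, hv1⟩
    let φ : (G ⧸ N) ⧸ C →* MulAut V := QuotientGroup.lift C MulAut.conjNormal (by
      intro g hg
      rw [MonoidHom.mem_ker]
      apply MulEquiv.ext
      intro w
      apply Subtype.ext
      rw [MulAut.conjNormal_apply, MulAut.one_apply]
      have h4 := Subgroup.mem_centralizer_iff.1 hg w w.2
      rw [← h4, mul_inv_cancel_right])
    have hFPF : HasFPF ((G ⧸ N) ⧸ C) := by
      refine hasFPF_mk φ ?_
      intro a ha w hw
      by_contra hw1
      obtain ⟨g, rfl⟩ := QuotientGroup.mk'_surjective C a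
      apply ha
      have h4 : g * (w : G ⧸ N) * g⁻¹ = w := by
        have h5 : ((MulAut.conjNormal g w : V) : G ⧸ N) = w := congrArg Subtype.val hw
        rwa [MulAut.conjNormal_apply] at h5
      have h5 : Commute g (w : G ⧸ N) := mul_inv_eq_iff_eq_mul.1 h4
      have hw1' : (w : G ⧸ N) ≠ 1 := fun h => hw1 (Subtype.ext h)
      have h6 := Rad.cent_elt hsQ hw1' (order_mem (A := A q) (fun r hr hd => by rw [hVe r hr hd]; exact heA) w.2) h5
      refine eq_one_of_both (A := A q) ?_ ?_
      · intro r hr hd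
        exact h6 r hr (hd.trans (orderOf_map_dvd (QuotientGroup.mk' C) g))
      · intro r hr hd
        exact hQA r hr (hd.trans (orderOf_dvd_natCard _))
    refine comp_false hP hFPF hOmQ ⟨σ x1, by rw [hord x1 hx1A, hx1]⟩ ⟨σ x2, by rw [hord x2 hx2A, hx2]⟩
      ⟨σ x3, by rw [hord x3 hx3A, hx3]⟩ ?_
    intro h3
    obtain ⟨x9, hx9⟩ := hex 9 (Or.inr (Or.inr (Or.inr (Or.inr (Or.inl ⟨h3, dvd_rfl⟩)))))
    refine ⟨σ x9, ?_⟩
    rw [hord x9, hx9]
    intro r hr hd
    rw [hx9] at hd
    have h4 : r ∣ 3 := hr.dvd_of_dvd_pow (n := 2) (by simpa using hd)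
    rw [(Nat.prime_dvd_prime_iff_eq hr Nat.prime_three).1 h4, ← h3]
    exact hpA
  · -- `N ≠ 1`
    have hsc : Spl (A q)ᶜ G := hs.compl
    have hVA : ∀ r : ℕ, r.Prime → r ∣ Nat.card V → r ∉ (A q)ᶜ := by
      intro r hr hd hn
      rw [hVe r hr hd] at hn
      exact hn heA
    have hVnil : Group.IsNilpotent V := by
      have : IsMulCommutative V := ⟨⟨fun a b => Subtype.ext (hab a a.2 b b.2)⟩⟩
      let : CommGroup V := { (inferInstance : Group V) with mul_comm := fun a b => Subtype.ext (hab a a.2 b b.2) }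
      infer_instance
    have hVz : ∀ w ∈ V, w ∈ zpowers (v : G ⧸ N) := fun w hw =>
      Rad.unique_prime_quot hsc N hN1 hNA V hVA hVnil he v.2 hw hvo (hexp w hw)
    have hVcyc : IsCyclic V := by
      refine ⟨⟨v, ?_⟩⟩
      intro w
      obtain ⟨k, hk⟩ := Subgroup.mem_zpowers_iff.1 (hVz w w.2)
      exact Subgroup.mem_zpowers_iff.2 ⟨k, Subtype.ext (by rw [Subgroup.coe_zpow, hk])⟩
    have hcomm : ∀ g h : G ⧸ N, ⁅g, h⁆ ∈ C := fun g h => commutator_mem_centralizer V hVcyc g h
    obtain ⟨b, hb⟩ := hex e (om_R heA)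
    have hNnil : Group.IsNilpotent N := nilpotent_of_prime hs N (fun r hr hd => hNA r hr hd) he heA hb
    -- fixed points
    have hfix : ∀ (s : ℕ) (x : G), s.Prime → s ∣ Nat.card N → (∀ r : ℕ, r.Prime → r ∣ orderOf x → r ∉ A q) →
        ¬ s ∣ orderOf x → Om p q (s * orderOf x) := by
      intro s x hsp hsN hx hsx
      obtain ⟨z, -, hz, hc⟩ := exists_fixed hs N hNnil (fun r hr hd => hNA r hr hd) he heA hvo
        (fun g => hVz _ (hVn.conj_mem _ v.2 g)) hsp hsN hx
      have h4 := hc.symm.orderOf_mul_eq_mul_orderOf_of_coprime (by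
        rw [hz]; exact (Nat.Prime.coprime_iff_not_dvd hsp).2 hsx)
      rw [hz] at h4
      rw [← h4]
      exact hOm _
    by_cases hpN : p ∣ Nat.card N
    · have h4 := hfix p x3 hp hpN hx3A (by rw [hx3]; exact p_not_dvd_E hP)
      rw [hx3] at h4
      exact not_om_p_E hP h4
    · rcases hP.R_eq with ⟨hp2, hq2, h2R, hRE⟩ | ⟨hp2, hq4, hRq, hRE⟩
      · -- `q` odd: `p` divides `r - 1` for all `r ∈ A`
        have hwo : orderOf (x1 ^ (p * (q - 1) / p)) = p := exists_pow_order hx1 (Dvd.intro _ rfl)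
        set w : G ⧸ N := π (x1 ^ (p * (q - 1) / p)) with hw
        have hwp : orderOf w = p := by
          have := Fact.mk hp
          refine orderOf_eq_prime ?_ ?_
          · have h5 : (x1 ^ (p * (q - 1) / p)) ^ p = 1 := orderOf_dvd_iff_pow_eq_one.1 (by rw [hwo])
            rw [hw, ← map_pow, h5, map_one]
          · intro h
            apply hpN
            have h5 : x1 ^ (p * (q - 1) / p) ∈ N := (QuotientGroup.eq_one_iff _).1 h
            rw [← hwo, ← Subgroup.orderOf_mk _ h5]
            exact orderOf_dvd_natCard _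
        have hmod : R q ≡ 1 [MOD p] := by
          apply modEq_one (by have := hP.R_big; omega)
          intro r hr hd
          obtain ⟨g, hg⟩ := hex r (om_R hd)
          have hgr : orderOf (π g) = r := by
            have := Fact.mk hr
            refine orderOf_eq_prime ?_ ?_
            · rw [← map_pow, ← hg, pow_orderOf_eq_one g, map_one]
            · intro h
              have h5 : g ∈ N := (QuotientGroup.eq_one_iff _).1 h
              refine hNA r hr ?_ hd
              rw [← hg, ← Subgroup.orderOf_mk _ h5]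
              exact orderOf_dvd_natCard _
          have h5 := normal_prime hs N hN1 hNA C hcomm hCA' hr hd hgr hp hpA hwp
          have h6 := orderOf_dvd_sub_one hr hgr h5 (x := w) (by
            intro i hi
            by_contra hne
            refine hsQ.not_commute' (x := π g) (y := w ^ i) (Rad.prime_mem hr hgr hd) ?_ ?_ hne hi.symm
            · intro s hs' hsd
              have h7 := hsd.trans (orderOf_pow_dvd i)
              rw [hwp] at h7
              rw [(Nat.prime_dvd_prime_iff_eq hs' hp).1 h7]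
              exact hpA
            · intro h
              rw [h, orderOf_one] at hgr
              exact hr.one_lt.ne hgr)
          rw [hwp] at h6
          exact ((Nat.modEq_iff_dvd' hr.one_le).2 h6).symm
        have h5 : 2 * R q ≡ 2 * 1 [MOD p] := hmod.mul_left 2
        have h6 : q * q + 1 ≡ 0 + 1 [MOD p] := by
          refine Nat.ModEq.add_right 1 ?_
          exact (Nat.modEq_zero_iff_dvd).2 (hP.p_dvd.mul_right q)
        rw [h2R] at h5
        have h7 := h6.symm.trans h5
        have h8 : p ∣ 2 * 1 - (0 + 1) := (Nat.modEq_iff_dvd' (by norm_num)).1 h7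
        exact hp.one_lt.ne' (Nat.dvd_one.1 h8)
      · -- `q` even
        have hNc : Nat.card N ≠ 1 := fun h => hN1 (Subgroup.eq_bot_of_card_eq _ h)
        obtain ⟨s, hsp, hsN⟩ := Nat.exists_prime_and_dvd hNc
        have hsp' : s ≠ p := by rintro rfl; exact hpN hsN
        have := Fact.mk hsp
        obtain ⟨z, hz⟩ := exists_prime_orderOf_dvd_card' (G := N) s hsN
        have h4 := hOm (z : G)
        rw [Subgroup.orderOf_coe, hz] at h4
        have hsE : s ∣ E q := by
          rcases hP.om_cases h4 with h5 | h5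
          · exact absurd h5 (hNA s hsp hsN)
          · rcases hsp.dvd_mul.1 h5 with h6 | h6
            · exfalso
              apply hsp'
              unfold ps at h6
              rw [hp2] at h6 ⊢
              have h7 : s ∣ 2 := hsp.dvd_of_dvd_pow (n := 2) (by simpa using h6)
              exact (Nat.prime_dvd_prime_iff_eq hsp Nat.prime_two).1 h7
            · exact h6
        have hs2 : s ≠ 2 := by rw [← hp2]; exact hsp'
        have hs3 : 3 ≤ s := by have := hsp.two_le; omega
        have h5 : s ∣ (q - 1) * (q + 1) := by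
          rw [← E_eq hP]; exact hsE.mul_right _
        rcases hsp.dvd_mul.1 h5 with h6 | h6
        · have h7 : ¬ s ∣ q + 1 := fun h7 => hs2 (eq_two_of_dvd hsp (by omega) h6 h7)
          have h8 : ¬ s ∣ p * (q + 1) := by
            intro h9
            rcases hsp.dvd_mul.1 h9 with h10 | h10
            · exact hsp' ((Nat.prime_dvd_prime_iff_eq hsp hp).1 h10)
            · exact h7 h10
          have h9 := hfix s x2 hsp hsN hx2A (by rw [hx2]; exact h8)
          rw [hx2, show s * (p * (q + 1)) = p * (s * (q + 1)) by ring] at h9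
          have h10 := om_p_mul hP (by
            intro h11
            rcases hp.dvd_mul.1 h11 with h12 | h12
            · exact hsp' ((Nat.prime_dvd_prime_iff_eq hp hsp).1 h12).symm
            · exact p_not_dvd_add hP h12) h9
          have h11 : 3 * (q + 1) ≤ s * (q + 1) := Nat.mul_le_mul_right _ hs3
          rcases h10 with h12 | h12
          · have := Nat.le_of_dvd (by omega) h12; omega
          · have := Nat.le_of_dvd (by omega) h12; omega
        · have h7 : ¬ s ∣ q - 1 := fun h7 => hs2 (eq_two_of_dvd hsp (by omega) h7 h6)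
          have h8 : ¬ s ∣ p * (q - 1) := by
            intro h9
            rcases hsp.dvd_mul.1 h9 with h10 | h10
            · exact hsp' ((Nat.prime_dvd_prime_iff_eq hsp hp).1 h10)
            · exact h7 h10
          have h9 := hfix s x1 hsp hsN hx1A (by rw [hx1]; exact h8)
          rw [hx1, show s * (p * (q - 1)) = p * (s * (q - 1)) by ring] at h9
          have h10 := om_p_mul hP (by
            intro h11
            rcases hp.dvd_mul.1 h11 with h12 | h12
            · exact hsp' ((Nat.prime_dvd_prime_iff_eq hp hsp).1 h12).symm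
            · exact p_not_dvd_sub hP h12) h9
          have h11 : 3 * (q - 1) ≤ s * (q - 1) := Nat.mul_le_mul_right _ hs3
          rcases h10 with h12 | h12
          · have := Nat.le_of_dvd (by omega) h12; omega
          · have := Nat.le_of_dvd (by omega) h12; omega

end Cfsg.Agent.H374.P4
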