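import Mathlib
import Cfsg.Agent.H374.P4.Rad
import Cfsg.Agent.ClassicalGeometry.PSL2Basic
import Cfsg.Agent.Lib.FieldAutCard

/-!
# Outer automorphisms: the abstract part, fixed fields
-/

set_option autoImplicit false

namespace Cfsg.Agent.H374.P4

open Subgroup Cfsg Cfsg.Agent.H466.Split Cfsg.Agent
open Cfsg.Agent.H379.P4 Cfsg.Agent.H374.Quad

universe u v

/-- a cyclic quotient of two-power order -/
theorem out_of_hom {H : Type u} {Z : Type v} [Group H] [Finite H] [Group Z] [IsCyclic Z] (S : Subgroup H)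
    [hS : S.Normal] (ρ : H →* Z) (hρ : ρ.ker = S)
    (h2 : ∀ (h : H) (l : ℕ), l.Prime → l ≠ 2 → orderOf (ρ h) = l → False) :
    IsCyclic (H ⧸ S) ∧ ∃ j : ℕ, Nat.card (H ⧸ S) = 2 ^ j := by
  subst hρ
  have hinj := QuotientGroup.kerLift_injective ρ
  refine ⟨isCyclic_of_injective (QuotientGroup.kerLift ρ) hinj, ?_⟩
  refine ⟨(Nat.card (H ⧸ ρ.ker)).primeFactorsList.length, ?_⟩
  apply Nat.eq_prime_pow_of_unique_prime_dvd Nat.card_pos.ne'
  intro l hl hd
  by_contra hne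
  have := Fact.mk hl
  obtain ⟨x, hx⟩ := exists_prime_orderOf_dvd_card' l hd
  obtain ⟨h, rfl⟩ := QuotientGroup.mk_surjective x
  refine h2 h l hl hne ?_
  rw [← hx, ← orderOf_injective _ hinj]
  rfl

section field
variable {F : Type*} [Field F] [Finite F]

theorem finite_ringEquiv : Finite (F ≃+* F) :=
  Finite.of_injective (fun σ : F ≃+* F => (σ : F → F)) DFunLike.coe_injective

theorem isCyclic_ringAut : IsCyclic (F ≃+* F) := by
  obtain ⟨p, hp⟩ := CharP.exists F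
  have hpp : Fact p.Prime := ⟨CharP.char_is_prime F p⟩
  let _ : Algebra (ZMod p) F := ZMod.algebra F p
  let φ : (F ≃ₐ[ZMod p] F) →* (F ≃+* F) :=
    { toFun := fun σ => σ.toRingEquiv
      map_one' := rfl
      map_mul' := fun _ _ => rfl }
  have hφ : Function.Surjective φ := by
    intro σ
    refine ⟨AlgEquiv.ofRingEquiv (f := σ) ?_, ?_⟩
    · intro x
      have : (σ : F →+* F).comp (algebraMap (ZMod p) F) = algebraMap (ZMod p) F := Subsingleton.elim _ _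
      exact RingHom.congr_fun this x
    · ext x
      rfl
  exact isCyclic_of_surjective φ hφ

/-- the fixed field of `σ` -/
theorem exists_fix (σ : F ≃+* F) :
    ∃ K : Subfield F, (∀ a, a ∈ K ↔ σ a = a) ∧ Nat.card F = Nat.card K ^ orderOf σ := by
  classical
  have := finite_ringEquiv (F := F)
  have : Fintype (Subgroup.zpowers σ) := Fintype.ofFinite _
  let K := FixedPoints.subfield (Subgroup.zpowers σ) F
  have hK : ∀ a, a ∈ K ↔ σ a = a := by
    intro a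
    constructor
    · intro h
      exact h ⟨σ, Subgroup.mem_zpowers σ⟩
    · rintro h ⟨τ, hτ⟩
      change τ a = a
      obtain ⟨k, rfl⟩ := Subgroup.mem_zpowers_iff.1 hτ
      have h1 : σ ∈ MulAction.stabilizer (F ≃+* F) a := h
      exact (MulAction.stabilizer (F ≃+* F) a).zpow_mem h1 k
  refine ⟨K, hK, ?_⟩
  have h1 := FixedPoints.finrank_eq_card (Subgroup.zpowers σ) F
  rw [← Nat.card_eq_fintype_card, Nat.card_zpowers] at h1
  rw [← h1]
  exact Module.natCard_eq_pow_finrank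

omit [Finite F] in
theorem charP_of_card [Fintype F] {p n : ℕ} (hp : p.Prime) (h : Fintype.card F = p ^ n) : CharP F p := by
  obtain ⟨r, hc⟩ := CharP.exists F
  obtain ⟨k, hr, hcard⟩ := FiniteField.card F r
  have h1 : r ∣ p ^ n := by rw [← h, hcard]; exact dvd_pow_self r k.ne_zero
  have h2 := (Nat.prime_dvd_prime_iff_eq hr hp).1 (hr.dvd_of_dvd_pow h1)
  rwa [h2] at hc

/-- squares -/
theorem sq_dich [Fintype F] (a b : Fˣ) : (∃ s : Fˣ, a = s ^ 2) ∨ (∃ s : Fˣ, b = s ^ 2) ∨ ∃ s : Fˣ, b = a * s ^ 2 := by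
  obtain ⟨g, hg⟩ := IsCyclic.exists_generator (α := Fˣ)
  obtain ⟨k, rfl⟩ := Subgroup.mem_zpowers_iff.1 (hg a)
  obtain ⟨l, rfl⟩ := Subgroup.mem_zpowers_iff.1 (hg b)
  rcases Int.even_or_odd' k with ⟨j, hj | hj⟩
  · left
    exact ⟨g ^ j, by rw [hj, mul_comm, _root_.zpow_mul, _root_.zpow_ofNat]⟩
  rcases Int.even_or_odd' l with ⟨i, hi | hi⟩
  · right; left
    exact ⟨g ^ i, by rw [hi, mul_comm, _root_.zpow_mul, _root_.zpow_ofNat]⟩
  · right; right
    refine ⟨g ^ (i - j), ?_⟩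
    rw [← _root_.zpow_natCast, ← _root_.zpow_mul, ← _root_.zpow_add, hi, hj]
    congr 1
    push_cast
    ring

/-- `a σ(a)` is a square -/
theorem sq_norm [Fintype F] (σ : F ≃+* F) (a : Fˣ) : ∃ s : Fˣ, (a : F) * σ a = (s : F) ^ 2 := by
  have hσ : ∀ x : Fˣ, ((Units.map (σ : F →* F) x : Fˣ) : F) = σ x := fun x => rfl
  rcases sq_dich a (Units.map (σ : F →* F) a) with ⟨s, hs⟩ | ⟨s, hs⟩ | ⟨s, hs⟩
  · refine ⟨s * Units.map (σ : F →* F) s, ?_⟩
    rw [Units.val_mul, hσ, hs, Units.val_pow_eq_pow_val, map_pow, mul_pow]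
  · refine ⟨Units.map (σ.symm : F →* F) s * s, ?_⟩
    have h1 : (a : F) = (σ.symm (s : F)) ^ 2 := by
      rw [← map_pow, ← Units.val_pow_eq_pow_val, ← hs, hσ, RingEquiv.symm_apply_apply]
    have h2 : σ (a : F) = (s : F) ^ 2 := by
      rw [← hσ, hs, Units.val_pow_eq_pow_val]
    rw [h2, h1, Units.val_mul, mul_pow]
    rfl
  · refine ⟨a * s, ?_⟩
    rw [← hσ, hs, Units.val_mul, Units.val_pow_eq_pow_val, Units.val_mul]
    ring

end field

/-- squares and odd powers -/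
theorem exists_s {q k l : ℕ} (hq : 0 < q) (hl : Odd l) (h : q ^ 2 = k ^ l) : ∃ s, k = s ^ 2 ∧ q = s ^ l := by
  obtain ⟨m, rfl⟩ := hl
  have h1 : (k ^ m) ^ 2 ∣ q ^ 2 := by
    rw [h, ← pow_mul, mul_comm m 2, pow_succ]
    exact Dvd.intro _ rfl
  obtain ⟨s, rfl⟩ := (Nat.pow_dvd_pow_iff (by norm_num)).1 h1
  have hk : 0 < k := by
    rcases Nat.eq_zero_or_pos k with h0 | h0
    · exfalso
      have h2 : k ^ (2 * m + 1) = 0 := by rw [h0]; exact zero_pow (Nat.succ_ne_zero _)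
      rw [h2] at h
      exact (pow_pos hq 2).ne' h
    · exact h0
  have h2 : k = s ^ 2 := by
    have h3 : k ^ (2 * m) * s ^ 2 = k ^ (2 * m) * k := by
      rw [← pow_succ, ← h, mul_pow, ← pow_mul, mul_comm m 2]
    exact (Nat.eq_of_mul_eq_mul_left (pow_pos hk _) h3).symm
  refine ⟨s, h2, ?_⟩
  rw [h2, ← pow_mul, pow_succ]

theorem exists_r {s : ℕ} (hs : 2 ≤ s) : ∃ r : ℕ, r.Prime ∧ r ≠ 2 ∧ r ∣ s ^ 2 + 1 := by
  by_contra hcon
  push Not at hcon
  have h1 : s ^ 2 + 1 = 2 ^ (s ^ 2 + 1).primeFactorsList.length :=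
    Nat.eq_prime_pow_of_unique_prime_dvd (by omega) (fun {d} hd hdv => by
      by_contra hne
      exact hcon d hd hne hdv)
  have h2 : 4 ≤ s ^ 2 := Nat.pow_le_pow_left hs 2
  have h3 : (s ^ 2) % 4 ≠ 3 := by
    have : s % 4 < 4 := Nat.mod_lt _ (by norm_num)
    rw [Nat.pow_mod]
    interval_cases s % 4 <;> norm_num
  rcases Nat.lt_or_ge (s ^ 2 + 1).primeFactorsList.length 2 with h4 | h4
  · interval_cases (s ^ 2 + 1).primeFactorsList.length <;> omega
  · obtain ⟨c, hc⟩ := Nat.exists_eq_add_of_le h4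
    rw [hc, pow_add] at h1
    omega

variable {p q : ℕ}

theorem mem_A_of_dvd (hP : Par p q) {s l : ℕ} (hq : q = s ^ l) (hl : Odd l) {r : ℕ} (hr : r.Prime) (hr2 : r ≠ 2)
    (h : r ∣ s ^ 2 + 1) : r ∈ A q := by
  have h1 : r ∣ q ^ 2 + 1 := by
    have h2 : s ^ 2 + 1 ∣ (s ^ 2) ^ l + 1 ^ l := Odd.nat_add_dvd_pow_add_pow _ _ hl
    rw [one_pow, ← pow_mul, mul_comm 2 l, pow_mul, ← hq] at h2
    exact h.trans h2
  rw [← hP.R_mul] at h1
  refine (Nat.Coprime.dvd_of_dvd_mul_right ?_ h1)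
  rw [Nat.Prime.coprime_iff_not_dvd hr]
  intro h3
  have h4 := h3.trans (Nat.gcd_dvd_left _ _)
  exact hr2 ((Nat.prime_dvd_prime_iff_eq hr Nat.prime_two).1 h4)

theorem exists_elt_sl {K : Type*} [Field K] [Fintype K] {s r : ℕ} (hK : Fintype.card K = s ^ 2) (hr : r.Prime)
    (h : r ∣ s ^ 2 + 1) : ∃ x : Matrix.SpecialLinearGroup (Fin 2) K, orderOf x = r := by
  classical
  have := Fact.mk hr
  apply exists_prime_orderOf_dvd_card' r
  rw [ClassicalGeometry.PSL2Basic.card_SL2, hK]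
  have h1 : (s ^ 2) ^ 2 - 1 = (s ^ 2 + 1) * (s ^ 2 - 1) := by
    rw [← Nat.sq_sub_sq, one_pow]
  rw [h1]
  exact (h.mul_right _).mul_left _

end Cfsg.Agent.H374.P4
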