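import Mathlib
import Cfsg.Agent.ClassicalGeometry.SympGamma
import Cfsg.Agent.ClassicalGeometry.SympAutTwo
import Cfsg.Agent.ClassicalGeometry.SympAutExists
import Cfsg.Agent.H374.P4.Out
import Cfsg.Agent.H374.P4.Emb

/-!
# Automorphisms of `PSp₄(F)`: inner, field and graph automorphisms
-/

set_option autoImplicit false

namespace Cfsg.Agent.H374.P4.SemiSp

open Subgroup Cfsg Cfsg.Agent Matrix
open Cfsg.Agent.ClassicalGeometry.SympBasic Cfsg.Agent.ClassicalGeometry.SympAutSemi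
open Cfsg.Agent.ClassicalGeometry.SympGamma

universe u v

variable {F : Type v} [Field F]

local notation "Sp" => Matrix.symplecticGroup (Fin 2) F
local notation "V" => (Fin 2 ⊕ Fin 2 → F)

/-- the projection -/
def pr : Sp →* PSp 2 F := QuotientGroup.mk' _

theorem pr_surjective : Function.Surjective (pr : Sp → PSp 2 F) := QuotientGroup.mk'_surjective _

theorem Psi_pr (g : semiSim 2 F) (A : Sp) : Psi 2 F g (pr A) = pr (conjHom 2 F g A) := rfl

theorem rho_mem (A : Sp) : rho 2 F A ∈ semiSim 2 F := ⟨_, _, one_ne_zero, isSemi_rho A⟩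

theorem scal_mem (a : Fˣ) : scal 2 F a ∈ semiSim 2 F := ⟨_, _, mul_ne_zero a.ne_zero a.ne_zero, isSemi_scal a⟩

theorem frob_mem (φ : F ≃+* F) : frobPerm 2 φ ∈ semiSim 2 F := ⟨_, _, one_ne_zero, isSemi_frobPerm φ⟩

/-- inner automorphisms -/
theorem Psi_rho (A : Sp) : Psi 2 F ⟨rho 2 F A, rho_mem A⟩ = MulAut.conj (pr A) := by
  apply MulEquiv.ext
  intro x
  obtain ⟨B, rfl⟩ := pr_surjective x
  rw [Psi_pr, MulAut.conj_apply, ← map_inv, ← map_mul, ← map_mul]
  congr 1
  apply rho_injective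
  rw [rho_conjHom, map_mul, map_mul, map_inv]

/-- field automorphisms -/
noncomputable def fr : (F ≃+* F) →* MulAut (PSp 2 F) :=
  (Psi 2 F).comp
    { toFun := fun φ => ⟨frobPerm 2 φ, frob_mem φ⟩
      map_one' := rfl
      map_mul' := fun _ _ => rfl }

theorem fr_apply (φ : F ≃+* F) : fr φ = Psi 2 F ⟨frobPerm 2 φ, frob_mem φ⟩ := rfl

/-- entrywise action -/
def mp {K : Type*} [Field K] (i : K →+* F) : Matrix.symplecticGroup (Fin 2) K →* Sp where
  toFun A := ⟨(A : Matrix (Fin 2 ⊕ Fin 2) (Fin 2 ⊕ Fin 2) K).map i, SymplecticGroup.map_mem A.2 i⟩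
  map_one' := by
    apply Subtype.ext
    simp
  map_mul' := by
    intro A B
    apply Subtype.ext
    simp

theorem mp_coe {K : Type*} [Field K] (i : K →+* F) (A : Matrix.symplecticGroup (Fin 2) K) :
    (mp i A : Matrix (Fin 2 ⊕ Fin 2) (Fin 2 ⊕ Fin 2) F) = (A : Matrix (Fin 2 ⊕ Fin 2) (Fin 2 ⊕ Fin 2) K).map i := rfl

theorem mp_injective {K : Type*} [Field K] (i : K →+* F) : Function.Injective (mp i) := by
  intro A B h
  apply Subtype.ext
  ext j k
  apply i.injective
  exact congrFun (congrFun (congrArg (fun C : Sp => (C : Matrix (Fin 2 ⊕ Fin 2) (Fin 2 ⊕ Fin 2) F)) h) j) k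

theorem fr_pr (φ : F ≃+* F) (A : Sp) : fr φ (pr A) = pr (mp (φ : F →+* F) A) := by
  rw [fr_apply, Psi_pr]
  congr 1
  apply rho_injective
  rw [rho_conjHom]
  apply Equiv.ext
  intro v
  obtain ⟨w, rfl⟩ := (frobPerm 2 φ).surjective v
  rw [Equiv.Perm.mul_apply, Equiv.Perm.mul_apply, perm_inv_apply_self, rho_apply, rho_apply, mp_coe]
  funext i
  rw [frobPerm_apply]
  simp only [mulVec, dotProduct, map_sum, map_mul, Matrix.map_apply, frobPerm_apply]
  rfl

/-- uniqueness of the field part and of the multiplier modulo squares -/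
theorem uniq {g h : semiSim 2 F} {φ ψ : F ≃+* F} {l k : F} (hg : IsSemi g.1 φ l) (hh : IsSemi h.1 ψ k)
    (e : Psi 2 F g = Psi 2 F h) : φ = ψ ∧ ∃ a : Fˣ, l = k * (a : F) ^ 2 := by
  obtain ⟨a, ha⟩ := exists_scal_of_Psi_eq_one (by norm_num) (g * h⁻¹) (by rw [map_mul, map_inv, e, mul_inv_cancel])
  have h1 : g.1 = scal 2 F a * h.1 := by
    rw [← ha]
    simp
  have h2 := (isSemi_scal (m := 2) a).mul hh
  rw [← h1] at h2
  obtain ⟨e1, e2⟩ := IsSemi.unique (by norm_num) hg h2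
  refine ⟨?_, a, ?_⟩
  · rw [e1]
    ext x
    rfl
  · rw [e2]
    change (a : F) * a * k = _
    ring

theorem fr_injective : Function.Injective (fr : (F ≃+* F) → MulAut (PSp 2 F)) := by
  intro φ ψ h
  exact (uniq (isSemi_frobPerm φ) (isSemi_frobPerm ψ) h).1

/-- an inner field automorphism is trivial -/
theorem eq_one_of_inner {φ : F ≃+* F} {x : PSp 2 F} (h : fr φ = MulAut.conj x) : φ = 1 := by
  obtain ⟨A, rfl⟩ := pr_surjective x
  rw [← Psi_rho] at h
  exact (uniq (isSemi_frobPerm φ) (isSemi_rho A) h).1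

/-- square multiplier -/
theorem exists_inner {g : semiSim 2 F} {φ : F ≃+* F} {s : Fˣ} (hg : IsSemi g.1 φ ((s : F) ^ 2)) :
    ∃ A : Sp, Psi 2 F g = MulAut.conj (pr A) * fr φ := by
  have h1 := ((isSemi_scal (m := 2) s⁻¹).mul hg).mul ((isSemi_frobPerm (m := 2) φ).inv one_ne_zero)
  have h2 : φ.symm.trans (φ.trans (RingEquiv.refl F)) = RingEquiv.refl F := by ext a; simp
  have h3 : ((s⁻¹ : Fˣ) : F) * ((s⁻¹ : Fˣ) : F) * (RingEquiv.refl F) ((s : F) ^ 2) *
      (φ.trans (RingEquiv.refl F)) (φ.symm 1⁻¹) = 1 := by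
    rw [inv_one, map_one, map_one, RingEquiv.refl_apply, mul_one]
    have : ((s⁻¹ : Fˣ) : F) * (s : F) = 1 := by rw [← Units.val_mul, inv_mul_cancel, Units.val_one]
    calc ((s⁻¹ : Fˣ) : F) * ((s⁻¹ : Fˣ) : F) * (s : F) ^ 2
        = (((s⁻¹ : Fˣ) : F) * (s : F)) * (((s⁻¹ : Fˣ) : F) * (s : F)) := by ring
      _ = 1 := by rw [this, mul_one]
  rw [h2, h3] at h1
  obtain ⟨A, hA⟩ := exists_rho_eq _ h1.1 h1.2.1 (fun u v => by rw [h1.2.2, one_mul]; rfl)
  refine ⟨A, ?_⟩
  have h4 : (⟨rho 2 F A, rho_mem A⟩ : semiSim 2 F) = ⟨scal 2 F s⁻¹, scal_mem s⁻¹⟩ * g *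
      (⟨frobPerm 2 φ, frob_mem φ⟩ : semiSim 2 F)⁻¹ := Subtype.ext hA
  have h5 := congrArg (Psi 2 F) h4
  rw [Psi_rho, map_mul, map_mul, map_inv, Psi_scal, one_mul, ← fr_apply] at h5
  rw [h5, inv_mul_cancel_right]

/-- an element of order `r` of `SL₂(E)`, `E` quadratic over `K ⊆ F`, in `PSp₄(F)` -/
theorem orderOf_pr {K E : Type*} [Field K] [Field E] [Algebra K E] {b : Module.Basis (Fin 2) K E}
    (hT : IsUnit (Emb.T b).det) (i : K →+* F) {x : Matrix.SpecialLinearGroup (Fin 2) E} {r : ℕ} (hr : r.Prime)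
    (hr2 : r ≠ 2) (hx : orderOf x = r) : orderOf (pr (mp i (Emb.hom hT x))) = r := by
  have := Fact.mk hr
  apply orderOf_eq_prime
  · rw [← map_pow, ← map_pow, ← map_pow, ← hx, pow_orderOf_eq_one, map_one, map_one, map_one]
  · intro h
    rw [pr, ← MonoidHom.mem_ker, QuotientGroup.ker_mk', LieClassical.SympCenter.mem_center_iff] at h
    obtain ⟨a, ha⟩ := h
    have h1 : Emb.homP hT x = 1 := by
      rw [Emb.homP, MonoidHom.comp_apply, ← MonoidHom.mem_ker, QuotientGroup.ker_mk',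
        LieClassical.SympCenter.mem_center_iff]
      refine ⟨(Emb.hom hT x).1 (Sum.inl 0) (Sum.inl 0), ?_⟩
      have h2 : ∀ j k, i ((Emb.hom hT x).1 j k) = a * (1 : Matrix (Fin 2 ⊕ Fin 2) (Fin 2 ⊕ Fin 2) F) j k := by
        intro j k
        have := congrFun (congrFun ha j) k
        rw [mp_coe, Matrix.map_apply, Matrix.smul_apply, smul_eq_mul] at this
        exact this
      have h3 : i ((Emb.hom hT x).1 (Sum.inl 0) (Sum.inl 0)) = a := by
        rw [h2, Matrix.one_apply_eq, mul_one]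
      ext j k
      apply i.injective
      rw [h2, Matrix.smul_apply, smul_eq_mul, map_mul, h3]
      congr 1
      rw [Matrix.one_apply, Matrix.one_apply]
      split_ifs <;> simp
    have h4 := Emb.homP_eq_one hT h1
    rw [Matrix.SpecialLinearGroup.mem_center_iff] at h4
    obtain ⟨c, hc, hcx⟩ := h4
    rw [Fintype.card_fin] at hc
    have h6 : x ^ 2 = 1 := by
      apply Subtype.ext
      rw [Matrix.SpecialLinearGroup.coe_pow, ← hcx, ← map_pow, hc, map_one, Matrix.SpecialLinearGroup.coe_one]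
    have h7 := orderOf_dvd_of_pow_eq_one h6
    rw [hx] at h7
    exact hr2 ((Nat.prime_dvd_prime_iff_eq hr Nat.prime_two).1 h7)

/-- quadratic extensions -/
theorem exists_quad (K : Type*) [Field K] [Fintype K] :
    ∃ (E : Type) (_ : Field E) (_ : Fintype E) (_ : Algebra K E) (b : Module.Basis (Fin 2) K E),
      Fintype.card E = Fintype.card K ^ 2 ∧ IsUnit (Emb.T b).det := by
  obtain ⟨p, hp⟩ := CharP.exists K
  have : Fact p.Prime := ⟨CharP.char_is_prime K p⟩
  let E := FiniteField.Extension K p 2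
  have : Fintype E := Fintype.ofFinite E
  let b : Module.Basis (Fin 2) K E :=
    (Module.finBasis K E).reindex (finCongr (FiniteField.finrank_extension K p 2))
  refine ⟨E, inferInstance, this, inferInstance, b, ?_, Emb.det_T b⟩
  rw [← Nat.card_eq_fintype_card, ← Nat.card_eq_fintype_card]
  exact FiniteField.natCard_extension K p 2

/-- **Non-square similitudes**: an involutory automorphism centralising `SL₂(q²)`. -/
theorem exists_invol [Fintype F] {c : F} (hc0 : c ≠ 0) (h2 : (2 : F) ≠ 0) :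
    ∃ g : semiSim 2 F, IsSemi g.1 (RingEquiv.refl F) c ∧ Psi 2 F g * Psi 2 F g = 1 ∧
      ∀ r : ℕ, r.Prime → r ≠ 2 → r ∣ Fintype.card F ^ 2 + 1 → ∃ y : Sp, orderOf (pr y) = r ∧
        Commute (Psi 2 F g) (MulAut.conj (pr y)) := by
  classical
  obtain ⟨E, iE, iF, iA, b, hE, hT⟩ := exists_quad F
  -- a square root
  obtain ⟨ε, hε⟩ : ∃ ε : E, ε ^ 2 = algebraMap F E c := by
    have hcF : ringChar F ≠ 2 := by
      intro h
      apply h2
      have := ringChar.Nat.cast_ringChar (R := F)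
      rw [h] at this
      exact_mod_cast this
    have hcE : ringChar E ≠ 2 := by
      intro h
      apply h2
      apply (algebraMap F E).injective
      have := ringChar.Nat.cast_ringChar (R := E)
      rw [h] at this
      rw [map_zero, map_ofNat]
      exact_mod_cast this
    have hodd := FiniteField.odd_card_of_char_ne_two hcF
    have hsq : IsSquare (algebraMap F E c) := by
      rw [FiniteField.isSquare_iff hcE (by
        intro h
        exact hc0 ((algebraMap F E).injective (h.trans (map_zero _).symm)))]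
      obtain ⟨k, hk⟩ : ∃ k, Fintype.card F = 2 * k + 1 := ⟨Fintype.card F / 2, by omega⟩
      have h3 : Fintype.card E / 2 = (Fintype.card F - 1) * (k + 1) := by
        rw [hE, hk]
        have : (2 * k + 1) ^ 2 = 2 * ((2 * k + 1 - 1) * (k + 1)) + 1 := by
          rw [Nat.add_sub_cancel]; ring
        omega
      rw [h3, ← map_pow, pow_mul, FiniteField.pow_card_sub_one_eq_one c hc0, one_pow, map_one]
    obtain ⟨ε, hε⟩ := hsq
    exact ⟨ε, by rw [pow_two, hε]⟩
  set P : Matrix (Fin 2) (Fin 2) F := Algebra.leftMulMatrix b ε with hP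
  have hPP : P * P = c • 1 := by
    rw [hP, ← map_mul, ← pow_two, hε, AlgHom.commutes, Algebra.algebraMap_eq_smul_one]
  set M : Matrix (Fin 2 ⊕ Fin 2) (Fin 2 ⊕ Fin 2) F := fromBlocks P 0 0 Pᵀ with hM
  have hMblk : M = Emb.blk b (ε • (1 : Matrix (Fin 2) (Fin 2) E)) := by
    unfold Emb.blk
    simp [hM, hP]
  have hMM : M * M = c • 1 := by
    rw [hM, fromBlocks_multiply]
    simp only [mul_zero, zero_mul, add_zero, zero_add]
    rw [← transpose_mul, hPP, transpose_smul, transpose_one, ← fromBlocks_one, fromBlocks_smul, smul_zero]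
  -- the isometry part
  have hA : fromBlocks (c⁻¹ • P) 0 0 Pᵀ ∈ Sp := by
    rw [SymplecticGroup.fromBlocks_mem_iff]
    refine ⟨by simp, by simp, ?_⟩
    rw [transpose_zero, zero_mul, sub_zero, ← transpose_mul, mul_smul_comm, hPP, smul_smul, inv_mul_cancel₀ hc0,
      one_smul, transpose_one]
  set g₀ : Equiv.Perm V := rho 2 F ⟨_, hA⟩ * dilPerm 2 (Units.mk0 c hc0) with hg₀
  have hg₀v : ∀ v : V, g₀ v = M *ᵥ v := by
    intro v
    rw [hg₀, Equiv.Perm.mul_apply, rho_apply]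
    have h3 : dilPerm 2 (Units.mk0 c hc0) v = fromBlocks (c • (1 : Matrix (Fin 2) (Fin 2) F)) 0 0 1 *ᵥ v := by
      funext i
      rw [fromBlocks_mulVec]
      rcases i with i | i
      · rw [dilPerm_inl]
        simp [smul_mulVec]
      · rw [dilPerm_inr]
        simp
    rw [h3, mulVec_mulVec]
    congr 1
    change fromBlocks (c⁻¹ • P) 0 0 Pᵀ * _ = _
    rw [fromBlocks_multiply, hM]
    simp [smul_smul, hc0]
  have hg₀s : IsSemi g₀ (RingEquiv.refl F) c := by
    have h3 := (isSemi_rho (m := 2) (⟨_, hA⟩ : Sp)).mul (isSemi_dilPerm (m := 2) (Units.mk0 c hc0))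
    have h4 : (1 : F) * (RingEquiv.refl F) ((Units.mk0 c hc0 : Fˣ) : F) = c := by
      rw [RingEquiv.refl_apply, Units.val_mk0, one_mul]
    rw [h4] at h3
    exact h3
  refine ⟨⟨g₀, _, c, hc0, hg₀s⟩, hg₀s, ?_, ?_⟩
  · rw [← map_mul]
    have h3 : (⟨g₀, _, c, hc0, hg₀s⟩ * ⟨g₀, _, c, hc0, hg₀s⟩ : semiSim 2 F) =
        ⟨scal 2 F (Units.mk0 c hc0), scal_mem _⟩ := by
      apply Subtype.ext
      apply Equiv.ext
      intro v
      change g₀ (g₀ v) = (c : F) • v
      rw [hg₀v, hg₀v, mulVec_mulVec, hMM, smul_mulVec, one_mulVec]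
    rw [h3]
    exact Psi_scal _ _
  · intro r hr hr2 hrd
    obtain ⟨x, hx⟩ := exists_elt_sl (K := E) (s := Fintype.card F) hE hr hrd
    refine ⟨mp (RingHom.id F) (Emb.hom hT x), orderOf_pr hT _ hr hr2 hx, ?_⟩
    rw [← Psi_rho]
    have h3 : Commute (⟨g₀, _, c, hc0, hg₀s⟩ : semiSim 2 F)
        ⟨rho 2 F (mp (RingHom.id F) (Emb.hom hT x)), rho_mem _⟩ := by
      apply Subtype.ext
      apply Equiv.ext
      intro v
      change g₀ (rho 2 F (mp (RingHom.id F) (Emb.hom hT x)) v) = rho 2 F (mp (RingHom.id F) (Emb.hom hT x)) (g₀ v)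
      have h4 : ((mp (RingHom.id F) (Emb.hom hT x) : Sp) : Matrix (Fin 2 ⊕ Fin 2) (Fin 2 ⊕ Fin 2) F) =
          Emb.blk b x.1 := by
        rw [mp_coe]
        ext j k
        rfl
      rw [rho_apply, rho_apply, hg₀v, hg₀v, mulVec_mulVec, mulVec_mulVec, h4]
      congr 1
      rw [hMblk, ← Emb.blk_mul hT, ← Emb.blk_mul hT]
      congr 1
      rw [smul_mul_assoc, mul_smul_comm, one_mul, mul_one]
    exact h3.map (Psi 2 F)

end Cfsg.Agent.H374.P4.SemiSp
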