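import Mathlib
import Cfsg.Agent.H374.P4.SemiSp
import Cfsg.Agent.H374.R.LOutB

/-!
# Almost simple groups with socle `PSp₄(q)`
-/

set_option autoImplicit false

namespace Cfsg.Agent.H374.P4.OutSp

open Subgroup Cfsg Cfsg.Agent.H466.Split Cfsg.Agent Matrix
open Cfsg.Agent.ClassicalGeometry.SympBasic Cfsg.Agent.ClassicalGeometry.SympAutSemi
open Cfsg.Agent.ClassicalGeometry.SympGamma
open Cfsg.Agent.H374.R.LOut
open Cfsg.Agent.H379.P4 Cfsg.Agent.H374.Quad Cfsg.Agent.H374.P4.SemiSp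

universe u v

variable {F : Type v} [Field F] [Fintype F] {p q : ℕ}

local notation "Sp" => Matrix.symplecticGroup (Fin 2) F

/-- field automorphisms of odd prime order -/
theorem no_odd (hP : Par p q) {H : Type u} [Group H] [Finite H] (hs : Spl (A q) H) (S : Subgroup H) [S.Normal]
    (hC : centralizer (S : Set H) = ⊥) (hidx : ∀ r : ℕ, r.Prime → r ∈ A q → ¬ r ∣ S.index)
    (hF : Fintype.card F = q) (e : S ≃* PSp 2 F) {h : H} {φ : F ≃+* F} {l : ℕ} (hl : l.Prime) (hl2 : l ≠ 2)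
    (hφ : orderOf φ = l) (hT : T e h = fr φ) : False := by
  classical
  have hTi := T_injective e hC
  have hfin : Finite (F ≃+* F) := finite_ringEquiv
  have hlodd : Odd l := hl.odd_of_ne_two hl2
  have hoh : orderOf h = l := by
    rw [← orderOf_injective (T e) hTi, hT, orderOf_injective _ fr_injective, hφ]
  by_cases hlA : l ∈ A q
  · refine hidx l hl hlA ?_
    have h1 : orderOf (QuotientGroup.mk h : H ⧸ S) = l := by
      have := Fact.mk hl
      apply orderOf_eq_prime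
      · rw [← QuotientGroup.mk_pow, ← hoh, pow_orderOf_eq_one, QuotientGroup.mk_one]
      · intro h2
        rw [QuotientGroup.eq_one_iff] at h2
        have h3 : T e h = MulAut.conj (e ⟨h, h2⟩) := by
          rw [← T_ι e, ι_apply, MulEquiv.symm_apply_apply]
        rw [hT] at h3
        rw [eq_one_of_inner h3, orderOf_one] at hφ
        exact hl.one_lt.ne hφ
    rw [← h1]
    exact orderOf_dvd_natCard _
  · obtain ⟨K, hK, hcard⟩ := exists_fix φ
    rw [hφ, Nat.card_eq_fintype_card, hF] at hcard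
    have : Fintype K := Fintype.ofFinite K
    rw [Nat.card_eq_fintype_card] at hcard
    have hs2 : 2 ≤ Fintype.card K := Fintype.one_lt_card
    obtain ⟨r, hr, hr2, hrs⟩ := exists_r hs2
    have hrA := mem_A_of_dvd hP hcard hlodd hr hr2 hrs
    obtain ⟨E, iE, iF, iA, b, hE, hU⟩ := exists_quad K
    obtain ⟨x, hx⟩ := exists_elt_sl (K := E) (s := Fintype.card K) hE hr hrs
    set y : Sp := mp K.subtype (Emb.hom hU x) with hy
    have hyo : orderOf (pr y) = r := orderOf_pr hU _ hr hr2 hx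
    have hfix : fr φ (pr y) = pr y := by
      rw [fr_pr]
      congr 1
      apply Subtype.ext
      ext j k
      rw [mp_coe, Matrix.map_apply]
      exact (hK _).1 ((Emb.hom hU x).1 j k).2
    have hcomm : Commute h (ι e (pr y)) := by
      apply hTi
      rw [map_mul, map_mul, hT, T_ι]
      apply MulEquiv.ext
      intro z
      rw [MulAut.mul_apply, MulAut.mul_apply, MulAut.conj_apply, MulAut.conj_apply, map_mul, map_mul, map_inv, hfix]
    have hyo' : orderOf (ι e (pr y)) = r := by rw [orderOf_injective _ (ι_injective e), hyo]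
    exact hs.not_commute hr hl hrA hlA (by rw [hyo']) (by rw [hoh]) (orderOf_pos _).ne' (orderOf_pos _).ne' hcomm.symm

omit [Fintype F] in
/-- change of the representative -/
theorem exists_frob {H : Type u} [Group H] {S : Subgroup H} [S.Normal] (e : S ≃* PSp 2 F) {h : H} {g : semiSim 2 F}
    {φ : F ≃+* F} {s : Fˣ} (hT : T e h = Psi 2 F g) (hg : IsSemi g.1 φ ((s : F) ^ 2)) :
    ∃ h' : H, T e h' = fr φ ∧ h'⁻¹ * h ∈ S ∧ ∃ y ∈ S, h = y * h' := by
  obtain ⟨A, hA⟩ := exists_inner hg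
  refine ⟨(ι e (SemiSp.pr A))⁻¹ * h, ?_, ?_, ι e (SemiSp.pr A), ι_mem e _, by rw [mul_inv_cancel_left]⟩
  · rw [map_mul, map_inv, T_ι, hT, hA, inv_mul_cancel_left]
  · rw [_root_.mul_inv_rev, inv_inv]
    have h1 := (inferInstance : S.Normal).conj_mem _ (ι_mem e (SemiSp.pr A)) h⁻¹
    rwa [inv_inv] at h1

omit [Fintype F] in
/-- the field part, on the group of semisimilitudes -/
theorem exists_rho : ∃ ρ : (Psi 2 F).range →* (F ≃+* F), ∀ (g : semiSim 2 F) (φ : F ≃+* F) (l : F),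
    IsSemi g.1 φ l → ρ ⟨Psi 2 F g, g, rfl⟩ = φ := by
  have hex : ∀ α : (Psi 2 F).range, ∃ (g : semiSim 2 F) (φ : F ≃+* F) (l : F), IsSemi g.1 φ l ∧ Psi 2 F g = α.1 := by
    rintro ⟨α, g, rfl⟩
    obtain ⟨φ, l, hl, h⟩ := g.2
    exact ⟨g, φ, l, h, rfl⟩
  choose f ψ k hk hf using hex
  have hψ : ∀ (g : semiSim 2 F) (φ : F ≃+* F) (l : F), IsSemi g.1 φ l → ψ ⟨Psi 2 F g, g, rfl⟩ = φ := by
    intro g φ l h
    exact (uniq (hk _) h (hf _)).1
  refine ⟨MonoidHom.mk' ψ ?_, hψ⟩
  intro α β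
  have h1 : α * β = ⟨Psi 2 F (f α * f β), f α * f β, rfl⟩ := by
    apply Subtype.ext
    change α.1 * β.1 = Psi 2 F (f α * f β)
    rw [map_mul, hf, hf]
  rw [h1]
  exact hψ _ _ _ ((hk α).mul (hk β))

/-- **The outer part**, socle `PSp₄(q)`, `q` odd. -/
theorem out_odd (hP : Par p q) (hp2 : p ≠ 2) {H : Type u} [Group H] [Finite H] (hs : Spl (A q) H) (S : Subgroup H)
    [S.Normal] (hC : centralizer (S : Set H) = ⊥) (hidx : ∀ r : ℕ, r.Prime → r ∈ A q → ¬ r ∣ S.index)
    (hF : Fintype.card F = q) (e : S ≃* PSp 2 F) :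
    IsCyclic (H ⧸ S) ∧ ∃ j : ℕ, Nat.card (H ⧸ S) = 2 ^ j := by
  classical
  have hfact := Fact.mk hP.prime
  obtain ⟨n, hn⟩ := hP.pow
  have hch : CharP F p := charP_of_card hP.prime (by rw [hF, hn])
  have h2F : (2 : F) ≠ 0 := by
    intro h
    have h1 : p ∣ 2 := (CharP.cast_eq_zero_iff F p 2).1 (by exact_mod_cast h)
    exact hp2 ((Nat.prime_dvd_prime_iff_eq hP.prime Nat.prime_two).1 h1)
  have hTi := T_injective e hC
  have hcyc : IsCyclic (F ≃+* F) := isCyclic_ringAut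
  have hfin : Finite (F ≃+* F) := finite_ringEquiv
  have hrange : ∀ α : MulAut (PSp 2 F), α ∈ (Psi 2 F).range := by
    intro α
    obtain ⟨g, hg⟩ := ClassicalGeometry.SympAutExists.exists_semi le_rfl α
      (ClassicalGeometry.SympAutOddA.recog le_rfl (Or.inr h2F) α)
    exact ⟨g, hg⟩
  obtain ⟨ρ₀, hρ₀⟩ := exists_rho (F := F)
  let ρ : H →* (F ≃+* F) := ρ₀.comp ((T e).codRestrict (Psi 2 F).range (fun h => hrange _))
  have hρ : ∀ (h : H) (g : semiSim 2 F) (φ : F ≃+* F) (l : F), IsSemi g.1 φ l → T e h = Psi 2 F g → ρ h = φ := by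
    intro h g φ l hg hh
    rw [← hρ₀ g φ l hg]
    change ρ₀ ⟨T e h, _⟩ = _
    congr 1
    exact Subtype.ext hh
  have hST : ∀ h ∈ S, ∃ A : Sp, T e h = Psi 2 F ⟨rho 2 F A, rho_mem A⟩ := by
    intro h hh
    obtain ⟨A, hA⟩ := SemiSp.pr_surjective (e ⟨h, hh⟩)
    refine ⟨A, ?_⟩
    rw [Psi_rho, hA, ← T_ι e, ι_apply, MulEquiv.symm_apply_apply]
  -- the kernel
  have hker : ρ.ker = S := by
    apply le_antisymm
    · intro h hh
      rw [MonoidHom.mem_ker] at hh
      obtain ⟨g, hg⟩ := hrange (T e h)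
      obtain ⟨φ, l, hl, hsem⟩ := id g.2
      have h1 : φ = 1 := by rw [← hh]; exact (hρ h g φ l hsem hg.symm).symm
      subst h1
      by_cases hsq : ∃ s : Fˣ, Units.mk0 l hl = s ^ 2
      · obtain ⟨s, hs⟩ := hsq
        have h2 : l = (s : F) ^ 2 := by rw [← Units.val_pow_eq_pow_val, ← hs, Units.val_mk0]
        rw [h2] at hsem
        obtain ⟨A, hA⟩ := exists_inner hsem
        rw [map_one, mul_one, hg] at hA
        exact T_mem e hC hA
      · exfalso
        obtain ⟨g', hg', hgg, hex⟩ := exists_invol hl h2F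
        -- `Psi g'` is in the image
        have h3 := (hsem.inv hl).mul hg'
        have h4 : (1 : F ≃+* F).symm l⁻¹ * (1 : F ≃+* F).symm l = ((1 : Fˣ) : F) ^ 2 := by
          change l⁻¹ * l = _
          rw [inv_mul_cancel₀ hl, Units.val_one, one_pow]
        rw [h4] at h3
        obtain ⟨B, hB⟩ := exists_inner (g := g⁻¹ * g') h3
        have h5 : (RingEquiv.refl F).trans (1 : F ≃+* F).symm = 1 := rfl
        rw [h5, map_one, mul_one, map_mul, map_inv, inv_mul_eq_iff_eq_mul, hg, ← T_ι e, ← map_mul] at hB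
        obtain ⟨h', hh'⟩ : ∃ h', h' = h * ι e (SemiSp.pr B) := ⟨_, rfl⟩
        rw [← hh'] at hB
        have h6 : h' * h' = 1 := by
          apply hTi
          rw [map_mul, ← hB, hgg, map_one]
        have h7 : h' ≠ 1 := by
          intro h8
          have h9 : Psi 2 F g' = Psi 2 F 1 := by rw [hB, h8, map_one, map_one]
          have h10 : IsSemi (1 : semiSim 2 F).1 (RingEquiv.refl F) 1 :=
            ⟨fun _ _ => rfl, fun _ _ => rfl, fun _ _ => by rw [one_mul]; rfl⟩
          obtain ⟨-, a, ha⟩ := uniq hg' h10 h9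
          apply hsq
          refine ⟨a, Units.ext ?_⟩
          rw [Units.val_mk0, ha, one_mul, Units.val_pow_eq_pow_val]
        have h8 : orderOf h' = 2 := orderOf_eq_prime (by rw [pow_two, h6]) h7
        obtain ⟨r, hr, hr2, hrs⟩ := exists_r (s := q) (by have := hP.big; omega)
        have hrA := mem_A_of_dvd hP (s := q) (l := 1) (by rw [pow_one]) odd_one hr hr2 hrs
        obtain ⟨y, hy, hcomm⟩ := hex r hr hr2 (by rw [hF]; exact hrs)
        have h9 : Commute h' (ι e (SemiSp.pr y)) := by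
          apply hTi
          rw [map_mul, map_mul, ← hB, T_ι]
          exact hcomm
        have h2A : 2 ∉ A q := by
          intro h4
          have := hP.R_odd
          have : 2 ∣ R q := h4
          omega
        exact hs.not_commute hr Nat.prime_two hrA h2A (by rw [orderOf_injective _ (ι_injective e), hy])
          (by rw [h8]) (orderOf_pos _).ne' (orderOf_pos _).ne' h9.symm
    · intro h hh
      rw [MonoidHom.mem_ker]
      obtain ⟨A, hA⟩ := hST h hh
      exact hρ h _ _ _ (isSemi_rho A) hA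
  refine out_of_hom S ρ hker ?_
  intro h l hl hl2 ho
  obtain ⟨g, hg⟩ := hrange (T e h)
  obtain ⟨φ, k, hk, hsem⟩ := id g.2
  have hφ := hρ h g φ k hsem hg.symm
  rw [hφ] at ho
  obtain ⟨s, hs'⟩ := sq_norm φ (Units.mk0 k hk)
  have h1 := hsem.mul hsem
  have h2 : k * φ k = (s : F) ^ 2 := by rw [← hs', Units.val_mk0]
  rw [h2] at h1
  obtain ⟨h', hT, -⟩ := exists_frob e (h := h * h) (g := g * g) (by rw [map_mul, map_mul, hg]) h1
  refine no_odd hP hs S hC hidx hF e hl hl2 ?_ hT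
  have h3 : φ.trans φ = φ ^ 2 := by rw [pow_two]; rfl
  rw [h3, orderOf_pow, ho]
  have : Nat.gcd l 2 = 1 := by
    rw [Nat.gcd_comm]
    exact (Nat.coprime_primes Nat.prime_two hl).2 (Ne.symm hl2)
  rw [this, Nat.div_one]

section even
variable [CharP F 2]

open Cfsg.Agent.ClassicalGeometry.Sp4GraphAut Cfsg.Agent.ClassicalGeometry.Sp4Graph

omit [Fintype F] in
theorem gamma_sq [Finite F] : gamma F * gamma F = fr (frobeniusEquiv F 2) := by
  apply MulEquiv.ext
  intro x
  obtain ⟨A, rfl⟩ := SemiSp.pr_surjective x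
  rw [MulAut.mul_apply, fr_pr]
  change gamma F (gamma F (QuotientGroup.mk A)) = _
  rw [gamma_mk, gamma_mk]
  change SemiSp.pr _ = _
  congr 1
  apply Subtype.ext
  ext j k
  rw [graphHom_graphHom, mp_coe, Matrix.map_apply]
  rfl

omit [Fintype F] in
theorem frob_pow [Finite F] (k : ℕ) (x : F) : ((frobeniusEquiv F 2) ^ k : F ≃+* F) x = x ^ 2 ^ k := by
  induction k with
  | zero => simp
  | succ k ih =>
    rw [pow_succ', pow_succ, pow_mul, ← ih]
    rfl

theorem exists_frob_pow (φ : F ≃+* F) : ∃ k : ℕ, φ = (frobeniusEquiv F 2) ^ k := by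
  let _ : Algebra (ZMod 2) F := ZMod.algebra F 2
  have h0 : ∀ x : ZMod 2, φ (algebraMap (ZMod 2) F x) = algebraMap (ZMod 2) F x := by
    intro x
    have : (φ : F →+* F).comp (algebraMap (ZMod 2) F) = algebraMap (ZMod 2) F := Subsingleton.elim _ _
    exact RingHom.congr_fun this x
  obtain ⟨i, hi⟩ := FiniteField.exists_forall_apply_eq_pow (ZMod 2) 2 F
    (AlgEquiv.ofRingEquiv (f := φ) h0)
  refine ⟨i, RingEquiv.ext fun x => ?_⟩
  rw [frob_pow]
  have := hi x
  rw [Nat.card_zmod] at this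
  exact this

theorem exists_gamma_pow (φ : F ≃+* F) : ∃ k : ℕ, fr φ = gamma F ^ (2 * k) := by
  obtain ⟨k, rfl⟩ := exists_frob_pow φ
  exact ⟨k, by rw [map_pow, ← gamma_sq, pow_mul, pow_two]⟩

omit [Fintype F] in
theorem gamma_not_mem [Finite F] : gamma F ∉ (Psi 2 F).range := by
  intro h
  have h1 := ClassicalGeometry.AutPSpCount.pres_of_mem_range h
  obtain ⟨v', -, c', -, hc⟩ := h1 (e1 F) e1_ne_zero 1 one_ne_zero
  exact gamma_transv_ne one_ne_zero v' c' hc

end even

/-- **The outer part**, socle `PSp₄(q)`, `q` even. -/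
theorem out_even (hP : Par 2 q) {H : Type u} [Group H] [Finite H] (hs : Spl (A q) H) (S : Subgroup H)
    [S.Normal] (hC : centralizer (S : Set H) = ⊥) (hidx : ∀ r : ℕ, r.Prime → r ∈ A q → ¬ r ∣ S.index)
    (hF : Fintype.card F = q) (e : S ≃* PSp 2 F) :
    IsCyclic (H ⧸ S) ∧ ∃ j : ℕ, Nat.card (H ⧸ S) = 2 ^ j := by
  classical
  obtain ⟨n, hn⟩ := hP.pow
  have hch : CharP F 2 := charP_of_card hP.prime (by rw [hF, hn])
  have hTi := T_injective e hC
  have hfin : Finite (F ≃+* F) := finite_ringEquiv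
  have ht : ∃ t : F, t ≠ 0 ∧ t ≠ 1 := by
    by_contra hcon
    push Not at hcon
    have h3 : Fintype.card F ≤ 2 := by
      have : (Finset.univ : Finset F) ⊆ {0, 1} := by
        intro t _
        by_cases h0 : t = 0
        · simp [h0]
        · simp [hcon t h0]
      exact (Finset.card_le_card this).trans (Finset.card_le_two)
    have := hP.big
    omega
  have hidx2 : (Psi 2 F).range.index = 2 := by
    refine ClassicalGeometry.SympAutTwo.index_two ht ?_
    intro α hα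
    obtain ⟨g, hg⟩ := ClassicalGeometry.SympAutExists.exists_semi le_rfl α hα
    exact ⟨g, hg⟩
  have hsq : ∀ l : F, l ≠ 0 → ∃ s : Fˣ, l = (s : F) ^ 2 := by
    intro l hl
    obtain ⟨s, hs⟩ := FiniteField.isSquare_of_char_two (ringChar.eq F 2) l
    have hs0 : s ≠ 0 := by
      rintro rfl
      rw [mul_zero] at hs
      exact hl hs
    exact ⟨Units.mk0 s hs0, by rw [hs, Units.val_mk0, pow_two]⟩
  let Inn : Subgroup (MulAut (PSp 2 F)) := (MulAut.conj : PSp 2 F →* MulAut (PSp 2 F)).range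
  have hInn : Inn.Normal := by
    refine ⟨?_⟩
    rintro _ ⟨x, rfl⟩ α
    refine ⟨α x, ?_⟩
    apply MulEquiv.ext
    intro y
    rw [MulAut.mul_apply, MulAut.mul_apply, MulAut.conj_apply, MulAut.conj_apply, map_mul, map_mul, map_inv,
      MulAut.apply_inv_self]
  -- the outer automorphism group is cyclic
  have hrep : ∀ α ∈ (Psi 2 F).range, ∃ (φ : F ≃+* F) (A : Sp), α = MulAut.conj (SemiSp.pr A) * fr φ := by
    rintro _ ⟨g, rfl⟩
    obtain ⟨φ, l, hl, hsem⟩ := id g.2
    obtain ⟨s, hs⟩ := hsq l hl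
    rw [hs] at hsem
    obtain ⟨A, hA⟩ := exists_inner hsem
    exact ⟨φ, A, hA⟩
  have hZ : IsCyclic (MulAut (PSp 2 F) ⧸ Inn) := by
    have hr : ∀ α ∈ (Psi 2 F).range, ∃ k : ℕ, (QuotientGroup.mk α : MulAut (PSp 2 F) ⧸ Inn) =
        (QuotientGroup.mk (ClassicalGeometry.Sp4GraphAut.gamma F)) ^ k := by
      intro α hα
      obtain ⟨φ, A, rfl⟩ := hrep α hα
      obtain ⟨k, hk⟩ := exists_gamma_pow φ
      refine ⟨2 * k, ?_⟩
      rw [QuotientGroup.mk_mul, hk, QuotientGroup.mk_pow,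
        (QuotientGroup.eq_one_iff _).2 (show MulAut.conj (SemiSp.pr A) ∈ Inn from ⟨_, rfl⟩), one_mul]
    refine ⟨⟨QuotientGroup.mk (ClassicalGeometry.Sp4GraphAut.gamma F), ?_⟩⟩
    intro z
    obtain ⟨α, rfl⟩ := QuotientGroup.mk_surjective z
    by_cases hα : α ∈ (Psi 2 F).range
    · obtain ⟨k, hk⟩ := hr α hα
      rw [hk]
      exact Subgroup.npow_mem_zpowers _ _
    · have h1 : (ClassicalGeometry.Sp4GraphAut.gamma F)⁻¹ * α ∈ (Psi 2 F).range := by
        rw [Subgroup.mul_mem_iff_of_index_two hidx2, inv_mem_iff]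
        exact iff_of_false gamma_not_mem hα
      obtain ⟨k, hk⟩ := hr _ h1
      rw [QuotientGroup.mk_mul, QuotientGroup.mk_inv, inv_mul_eq_iff_eq_mul, ← pow_succ'] at hk
      rw [hk]
      exact Subgroup.npow_mem_zpowers _ _
  let ρ : H →* MulAut (PSp 2 F) ⧸ Inn := (QuotientGroup.mk' Inn).comp (T e)
  have hker : ρ.ker = S := by
    apply le_antisymm
    · intro h hh
      rw [MonoidHom.mem_ker] at hh
      obtain ⟨y, hy⟩ := (QuotientGroup.eq_one_iff (T e h)).1 hh
      exact T_mem e hC hy.symm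
    · intro h hh
      rw [MonoidHom.mem_ker]
      refine (QuotientGroup.eq_one_iff (T e h)).2 ⟨e ⟨h, hh⟩, ?_⟩
      rw [← T_ι e, ι_apply, MulEquiv.symm_apply_apply]
  refine out_of_hom S ρ hker ?_
  intro h l hl hl2 ho
  have hlodd : Odd l := hl.odd_of_ne_two hl2
  have hmem : T e h ∈ (Psi 2 F).range := by
    have h1 : (T e h) ^ l ∈ (Psi 2 F).range := by
      have h2 : ρ h ^ l = 1 := by rw [← ho, pow_orderOf_eq_one]
      have h3 : (QuotientGroup.mk ((T e h) ^ l) : MulAut (PSp 2 F) ⧸ Inn) = 1 := by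
        rw [QuotientGroup.mk_pow]; exact h2
      obtain ⟨y, hy⟩ := (QuotientGroup.eq_one_iff _).1 h3
      obtain ⟨A, hA⟩ := SemiSp.pr_surjective y
      exact ⟨_, by rw [Psi_rho A, hA, hy]⟩
    obtain ⟨k, hk⟩ := hlodd
    rw [hk, pow_succ, pow_mul] at h1
    have h2 : (T e h) ^ 2 ∈ (Psi 2 F).range := Subgroup.sq_mem_of_index_two hidx2 _
    exact ((Psi 2 F).range.mul_mem_cancel_left (Subgroup.pow_mem _ h2 k)).1 h1
  obtain ⟨g, hg⟩ := hmem
  obtain ⟨φ, k, hk, hsem⟩ := id g.2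
  obtain ⟨s, hs'⟩ := hsq k hk
  rw [hs'] at hsem
  obtain ⟨h', hT, hS, -⟩ := exists_frob e (h := h) (g := g) hg.symm hsem
  have hρ : ρ h' = ρ h := by
    have h1 : ρ (h'⁻¹ * h) = 1 := by rw [← MonoidHom.mem_ker, hker]; exact hS
    rw [map_mul, map_inv, inv_mul_eq_one] at h1
    exact h1
  refine no_odd hP hs S hC hidx hF e hl hl2 ?_ hT
  have := Fact.mk hl
  apply orderOf_eq_prime
  · have h1 : (QuotientGroup.mk (fr (φ ^ l)) : MulAut (PSp 2 F) ⧸ Inn) = 1 := by
      rw [map_pow, QuotientGroup.mk_pow, ← hT]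
      have h2 : (QuotientGroup.mk (T e h') : MulAut (PSp 2 F) ⧸ Inn) = ρ h := hρ
      rw [h2, ← ho, pow_orderOf_eq_one]
    obtain ⟨y, hy⟩ := (QuotientGroup.eq_one_iff _).1 h1
    exact eq_one_of_inner hy.symm
  · rintro rfl
    rw [map_one] at hT
    have h1 : ρ h = 1 := by
      rw [← hρ]
      change (QuotientGroup.mk (T e h') : MulAut (PSp 2 F) ⧸ Inn) = 1
      rw [hT, QuotientGroup.mk_one]
    rw [h1, orderOf_one] at ho
    exact hl.one_lt.ne ho

/-- **The outer part**, socle `PSp₄(q)`. -/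
theorem out (hP : Par p q) {H : Type u} [Group H] [Finite H] (hs : Spl (A q) H) (S : Subgroup H)
    [S.Normal] (hC : centralizer (S : Set H) = ⊥) (hidx : ∀ r : ℕ, r.Prime → r ∈ A q → ¬ r ∣ S.index)
    (hF : Fintype.card F = q) (e : S ≃* PSp 2 F) :
    IsCyclic (H ⧸ S) ∧ ∃ j : ℕ, Nat.card (H ⧸ S) = 2 ^ j := by
  by_cases hp2 : p = 2
  · subst hp2
    exact out_even hP hs S hC hidx hF e
  · exact out_odd hP hp2 hs S hC hidx hF e

end Cfsg.Agent.H374.P4.OutSp
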