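import Mathlib
import Cfsg.Agent.H374.P4.Out
import Cfsg.Agent.H374.R.LOutB
import Cfsg.Agent.S2475

/-!
# Almost simple groups with socle `PSL₂(q²)`
-/

set_option autoImplicit false

namespace Cfsg.Agent.H374.P4.OutL

open Subgroup Cfsg Cfsg.Agent.H466.Split Cfsg.Agent Matrix
open Cfsg.Agent.ClassicalGeometry.AutPSL.Root
open Cfsg.Agent.ClassicalGeometry.AutPSL.Auto
open Cfsg.Agent.ClassicalGeometry.AutPSL.Main
open Cfsg.Agent.H371.OutTwo
open Cfsg.Agent.H374.R.LOut
open Cfsg.Agent.H379.P4 Cfsg.Agent.H374.Quad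

universe u v

variable {F : Type v} [Field F] [Fintype F]

local notation "SL2" => Matrix.SpecialLinearGroup (Fin 2) F
local notation "PSL2" => Matrix.ProjectiveSpecialLinearGroup (Fin 2) F

omit [Fintype F] in
theorem uniq {A B : GL (Fin 2) F} {σ τ : F ≃+* F} (h : lift (cj A * fld σ) = lift (cj B * fld τ)) : σ = τ := by
  have h1 : lift (cj (B⁻¹ * A) * fld σ) = lift (fld τ) := by
    rw [map_mul cj, mul_assoc, map_mul lift, h, ← map_mul lift, ← mul_assoc, ← map_mul cj, inv_mul_cancel, map_one,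
      one_mul]
  exact (injective_aux h1).2

/-- the field part of an automorphism -/
theorem exists_rho (p : ℕ) [Fact p.Prime] [CharP F p] : ∃ ρ : MulAut PSL2 →* (F ≃+* F),
    (∀ α, ∃ A : GL (Fin 2) F, α = lift (cj A * fld (ρ α))) ∧
      ∀ (A : GL (Fin 2) F) (σ : F ≃+* F), ρ (lift (cj A * fld σ)) = σ := by
  choose f g hfg using fun α : MulAut PSL2 => surj_two p α
  have hg : ∀ (A : GL (Fin 2) F) (σ : F ≃+* F), g (lift (cj A * fld σ)) = σ := by
    intro A σ
    exact (uniq (hfg (lift (cj A * fld σ)))).symm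
  refine ⟨MonoidHom.mk' g ?_, fun α => ⟨f α, hfg α⟩, hg⟩
  intro α β
  have h1 : α * β = lift (cj (f α * Matrix.GeneralLinearGroup.map ((g α : F ≃+* F) : F →+* F) (f β)) *
      fld (g α * g β)) := by
    conv_lhs => rw [hfg α, hfg β, ← map_mul lift]
    congr 1
    rw [map_mul cj, map_mul fld]
    calc cj (f α) * fld (g α) * (cj (f β) * fld (g β)) = cj (f α) * (fld (g α) * cj (f β)) * fld (g β) := by
          simp only [mul_assoc]
      _ = _ := by rw [fld_cj']; simp only [mul_assoc]
  rw [h1]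
  exact hg _ _

/-- a Singer cycle -/
theorem exists_singer (p : ℕ) [Fact p.Prime] [CharP F p] :
    ∃ M : GL (Fin 2) F, ∀ k : ℕ, (lift (cj M) : MulAut PSL2) ^ k = 1 → Fintype.card F + 1 ∣ k := by
  classical
  let E := FiniteField.Extension F p 2
  have : Fintype E := Fintype.ofFinite E
  have hE : Fintype.card E = Fintype.card F ^ 2 := by
    rw [← Nat.card_eq_fintype_card, ← Nat.card_eq_fintype_card]
    exact FiniteField.natCard_extension F p 2
  let b : Module.Basis (Fin 2) F E :=
    (Module.finBasis F E).reindex (finCongr (FiniteField.finrank_extension F p 2))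
  obtain ⟨g, hg⟩ := IsCyclic.exists_generator (α := Eˣ)
  have hgo : orderOf g = Fintype.card F ^ 2 - 1 := by
    rw [orderOf_eq_card_of_forall_mem_zpowers hg, Nat.card_units, Nat.card_eq_fintype_card, hE]
  have hF1 : 1 < Fintype.card F := Fintype.one_lt_card
  refine ⟨Units.map (Algebra.leftMulMatrix b : E →* Matrix (Fin 2) (Fin 2) F) g, ?_⟩
  intro k hk
  rw [← map_pow, ← map_pow, ← map_pow] at hk
  have hk' : lift (cj (Units.map (Algebra.leftMulMatrix b : E →* Matrix (Fin 2) (Fin 2) F) (g ^ k)) *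
      fld (1 : F ≃+* F)) = 1 := by rw [map_one fld, mul_one, hk]
  obtain ⟨⟨r, hr⟩, -⟩ := eq_one_of_lift hk'
  have h1 : ((g ^ k : Eˣ) : E) = algebraMap F E r := by
    apply Algebra.leftMulMatrix_injective b
    rw [AlgHom.commutes]
    exact hr.symm
  have hr0 : r ≠ 0 := by
    rintro rfl
    rw [map_zero] at h1
    exact (g ^ k).ne_zero h1
  have h2 : g ^ (k * (Fintype.card F - 1)) = 1 := by
    apply Units.ext
    rw [pow_mul, Units.val_pow_eq_pow_val, h1, ← map_pow, FiniteField.pow_card_sub_one_eq_one r hr0, map_one,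
      Units.val_one]
  have h3 := orderOf_dvd_of_pow_eq_one h2
  have h4 : Fintype.card F ^ 2 - 1 = (Fintype.card F + 1) * (Fintype.card F - 1) := by
    rw [← Nat.sq_sub_sq, one_pow]
  rw [hgo, h4] at h3
  exact Nat.dvd_of_mul_dvd_mul_right (by omega) h3

variable {p q : ℕ}

/-- **The outer part**, socle `PSL₂(q²)`. -/
theorem out (hP : Par p q) {H : Type u} [Group H] [Finite H] (hs : Spl (A q) H) (S : Subgroup H) [S.Normal]
    (hC : centralizer (S : Set H) = ⊥) (hidx : ∀ r : ℕ, r.Prime → r ∈ A q → ¬ r ∣ S.index)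
    (hF : Fintype.card F = q ^ 2) (e : S ≃* PSL2) :
    IsCyclic (H ⧸ S) ∧ ∃ j : ℕ, Nat.card (H ⧸ S) = 2 ^ j := by
  classical
  have := Fact.mk hP.prime
  obtain ⟨n, hn⟩ := hP.pow
  have hch : CharP F p := charP_of_card (n := n * 2) hP.prime (by rw [hF, hn, pow_mul])
  obtain ⟨ρ, hρ, hρ'⟩ := exists_rho (F := F) p
  have hTi := T_injective e hC
  have hcyc : IsCyclic (F ≃+* F) := isCyclic_ringAut
  have hfin : Finite (F ≃+* F) := finite_ringEquiv
  have hmul : ∀ (x : SL2) (h : H), T e (ι e (pr x) * h) = lift (MulAut.conj x) * T e h := by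
    intro x h
    rw [map_mul, T_ι, lift_conj]
  -- the kernel
  have hker : (ρ.comp (T e)).ker = S := by
    apply le_antisymm
    · intro h hh
      rw [MonoidHom.mem_ker, MonoidHom.comp_apply] at hh
      obtain ⟨A₀, hA⟩ := hρ (T e h)
      rw [hh, map_one, mul_one] at hA
      obtain ⟨a, ha⟩ : ∃ a : Fˣ, (a : F) = (A₀ : Matrix (Fin 2) (Fin 2) F).det :=
        (Matrix.isUnit_iff_isUnit_det _).1 A₀.isUnit
      by_cases hsq : ∃ s : Fˣ, a = s ^ 2
      · obtain ⟨s, hs⟩ := hsq
        obtain ⟨x, hx⟩ := exists_inner (A := 1) (B := A₀) (s := s) (by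
          rw [← ha, hs, Units.val_one, Matrix.det_one, one_mul, Units.val_pow_eq_pow_val])
        rw [map_one, map_one, mul_one, ← hA] at hx
        exact T_mem e hC hx
      · exfalso
        obtain ⟨M, hM⟩ := exists_singer (F := F) p
        obtain ⟨m, hm⟩ : ∃ m : Fˣ, (m : F) = (M : Matrix (Fin 2) (Fin 2) F).det :=
          (Matrix.isUnit_iff_isUnit_det _).1 M.isUnit
        -- `lift (cj M)` is in the image
        have hex : ∃ h' : H, T e h' = lift (cj M) := by
          rcases sq_dich a m with ⟨s, hs⟩ | ⟨s, hs⟩ | ⟨s, hs⟩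
          · exact absurd ⟨s, hs⟩ hsq
          · obtain ⟨x, hx⟩ := exists_inner (A := 1) (B := M) (s := s) (by
              rw [← hm, hs, Units.val_one, Matrix.det_one, one_mul, Units.val_pow_eq_pow_val])
            rw [map_one, map_one, mul_one] at hx
            exact ⟨ι e (pr x), by rw [T_ι, hx]⟩
          · obtain ⟨x, hx⟩ := exists_inner (A := A₀) (B := M) (s := s) (by
              rw [← hm, hs, ← ha, Units.val_mul, Units.val_pow_eq_pow_val])
            exact ⟨ι e (pr x) * h, by rw [hmul, hA, hx, lift_conj]⟩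
        obtain ⟨h', hh'⟩ := hex
        have h1 : Fintype.card F + 1 ∣ orderOf h' := by
          apply hM
          rw [← hh', ← map_pow, pow_orderOf_eq_one, map_one]
        rw [hF] at h1
        have h2q : p ≠ 2 := by
          rintro rfl
          apply hsq
          obtain ⟨s, hs⟩ := FiniteField.isSquare_of_char_two (ringChar.eq F 2) (a : F)
          have hs0 : s ≠ 0 := by
            rintro rfl
            rw [mul_zero] at hs
            exact a.ne_zero hs
          exact ⟨Units.mk0 s hs0, Units.ext (by rw [hs, Units.val_pow_eq_pow_val, Units.val_mk0, pow_two])⟩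
        have h2 : 2 ∣ orderOf h' := by
          refine dvd_trans ?_ h1
          rcases hP.parity with ⟨-, h3, -⟩ | ⟨h3, -⟩
          · have : q ^ 2 % 2 = 1 := by rw [Nat.pow_mod, h3]
            omega
          · exact absurd h3 h2q
        obtain ⟨r, hr, hrR⟩ := Nat.exists_prime_and_dvd (n := R q) (by have := hP.R_big; omega)
        have h3 : r ∣ orderOf h' := by
          refine dvd_trans ?_ h1
          rw [← hP.R_mul]
          exact hrR.mul_right _
        have h2A : 2 ∉ A q := by
          intro h4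
          have := hP.R_odd
          have : 2 ∣ R q := h4
          omega
        exact hs.not_commute hr Nat.prime_two hrR h2A h3 h2 (orderOf_pos _).ne' (orderOf_pos _).ne'
          (Commute.refl h')
    · intro h hh
      rw [MonoidHom.mem_ker, MonoidHom.comp_apply]
      have h1 : h = ι e (e ⟨h, hh⟩) := by rw [ι_apply, MulEquiv.symm_apply_apply]
      obtain ⟨x, hx⟩ := pr_surjective (e ⟨h, hh⟩)
      rw [h1, T_ι, ← hx, ← lift_conj, ← cj_toGL]
      have := hρ' (toGL x) 1
      rwa [map_one, mul_one] at this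
  refine out_of_hom S (ρ.comp (T e)) hker ?_
  intro h l hl hl2 ho
  obtain ⟨A₀, hA⟩ := hρ (T e h)
  set σ : F ≃+* F := ρ (T e h) with hσ
  have ho' : orderOf σ = l := ho
  have hlodd : Odd l := hl.odd_of_ne_two hl2
  -- the square
  obtain ⟨a, ha⟩ : ∃ a : Fˣ, (a : F) = (A₀ : Matrix (Fin 2) (Fin 2) F).det :=
    (Matrix.isUnit_iff_isUnit_det _).1 A₀.isUnit
  obtain ⟨s, hs'⟩ := sq_norm σ a
  set A₁ : GL (Fin 2) F := A₀ * Matrix.GeneralLinearGroup.map (σ : F →+* F) A₀ with hA₁
  have hsq : T e (h * h) = lift (cj A₁ * fld (σ * σ)) := by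
    rw [map_mul, hA, ← map_mul lift]
    congr 1
    rw [hA₁, map_mul cj, map_mul fld]
    calc cj A₀ * fld σ * (cj A₀ * fld σ) = cj A₀ * (fld σ * cj A₀) * fld σ := by
          simp only [mul_assoc]
      _ = _ := by rw [fld_cj']; simp only [mul_assoc]
  have hdet : (A₁ : Matrix (Fin 2) (Fin 2) F).det = (s : F) ^ 2 := by
    rw [hA₁, Units.val_mul, Matrix.det_mul, ← ha, ← hs', ha]
    congr 1
    change ((A₀ : Matrix (Fin 2) (Fin 2) F).map (σ : F →+* F)).det = _
    rw [← RingHom.mapMatrix_apply, ← RingHom.map_det]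
    rfl
  obtain ⟨x, hx⟩ := exists_inner (A := A₁) (B := 1) (s := s⁻¹) (by
    rw [hdet, Units.val_one, Matrix.det_one, ← Units.val_pow_eq_pow_val, ← Units.val_pow_eq_pow_val, ← Units.val_mul,
      ← mul_pow, mul_inv_cancel, one_pow, Units.val_one])
  rw [map_one, map_one] at hx
  obtain ⟨h', hT⟩ : ∃ h' : H, T e h' = lift (fld (σ * σ)) :=
    ⟨ι e (pr x) * (h * h), by rw [hmul, hsq, lift_conj, map_mul lift, ← mul_assoc, ← hx, one_mul]⟩
  have hoσ : orderOf (σ * σ) = l := by
    rw [← pow_two, orderOf_pow, ho']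
    have : Nat.gcd l 2 = 1 := by
      rw [Nat.gcd_comm]
      exact (Nat.coprime_primes Nat.prime_two hl).2 (Ne.symm hl2)
    rw [this, Nat.div_one]
  have hinj : Function.Injective ((lift : MulAut SL2 →* MulAut PSL2).comp fld) := by
    rw [injective_iff_map_eq_one]
    intro τ hτ
    exact fld_eq_one hτ
  have hoh : orderOf h' = l := by
    rw [← orderOf_injective (T e) hTi, hT, ← hoσ]
    exact orderOf_injective _ hinj (σ * σ)
  by_cases hlA : l ∈ A q
  · refine hidx l hl hlA ?_
    have h1 : orderOf (QuotientGroup.mk h' : H ⧸ S) = l := by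
      have := Fact.mk hl
      apply orderOf_eq_prime
      · rw [← QuotientGroup.mk_pow, ← hoh, pow_orderOf_eq_one, QuotientGroup.mk_one]
      · intro h2
        rw [QuotientGroup.eq_one_iff, ← hker, MonoidHom.mem_ker, MonoidHom.comp_apply, hT] at h2
        have h3 := hρ' 1 (σ * σ)
        rw [map_one, one_mul, h2] at h3
        rw [← h3, orderOf_one] at hoσ
        exact hl.one_lt.ne hoσ
    rw [← h1]
    exact orderOf_dvd_natCard _
  · -- a fixed element
    obtain ⟨K, hK, hcard⟩ := exists_fix (σ * σ)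
    rw [hoσ, Nat.card_eq_fintype_card, hF] at hcard
    obtain ⟨s₀, hs₀, hqs⟩ := exists_s (by have := hP.big; omega) hlodd hcard
    have hs2 : 2 ≤ s₀ := by
      rcases Nat.lt_or_ge s₀ 2 with h5 | h5
      · exfalso
        have h6 := hP.big
        interval_cases s₀
        · rw [zero_pow hl.ne_zero] at hqs; omega
        · rw [one_pow] at hqs; omega
      · exact h5
    obtain ⟨r, hr, hr2, hrs⟩ := exists_r hs2
    have hrA := mem_A_of_dvd hP hqs hlodd hr hr2 hrs
    obtain ⟨y, hy⟩ := exists_elt_sl (K := K) (s := s₀) (by rw [← Nat.card_eq_fintype_card, hs₀]) hr hrs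
    set y' : SL2 := Matrix.SpecialLinearGroup.map K.subtype y with hy'
    have hyinj : Function.Injective (Matrix.SpecialLinearGroup.map (n := Fin 2) K.subtype) := by
      intro a b hab
      apply Subtype.ext
      ext i j
      have := congrArg (fun g : SL2 => g.1 i j) hab
      exact this
    have hyo : orderOf y' = r := by rw [hy', orderOf_injective _ hyinj, hy]
    have hfix : fld (σ * σ) y' = y' := by
      apply Subtype.ext
      ext i j
      rw [coe_fld_apply]
      exact (hK _).1 (y.1 i j).2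
    have hcomm : Commute h' (ι e (pr y')) := by
      apply hTi
      rw [map_mul, map_mul, hT, T_ι]
      exact fld_commute hfix
    -- the order
    have hyne : pr y' ≠ 1 := by
      intro h5
      rw [pr_eq_one_iff, Matrix.SpecialLinearGroup.mem_center_iff] at h5
      obtain ⟨c, hc, hcy⟩ := h5
      rw [Fintype.card_fin] at hc
      have h6 : y' ^ 2 = 1 := by
        apply Subtype.ext
        rw [Matrix.SpecialLinearGroup.coe_pow, ← hcy, ← map_pow, hc, map_one, Matrix.SpecialLinearGroup.coe_one]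
      have h7 := orderOf_dvd_of_pow_eq_one h6
      rw [hyo] at h7
      exact hr2 ((Nat.prime_dvd_prime_iff_eq hr Nat.prime_two).1 h7)
    have hyo' : orderOf (ι e (pr y')) = r := by
      have := Fact.mk hr
      apply orderOf_eq_prime
      · rw [← map_pow, ← map_pow, ← hyo, pow_orderOf_eq_one, map_one, map_one]
      · intro h5
        exact hyne (ι_injective e (h5.trans (map_one _).symm))
    exact hs.not_commute hr hl hrA hlA (by rw [hyo']) (by rw [hoh]) (orderOf_pos _).ne' (orderOf_pos _).ne' hcomm.symm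

theorem four_mul_lt {n : ℕ} (hn : 2 ≤ n) : 4 * n < 3 ^ n := by
  induction n, hn using Nat.le_induction with
  | base => norm_num
  | succ n hn ih => rw [pow_succ]; omega

/-- **The radical is not trivial** if `q` is odd: an almost simple group with socle `PSL₂(q²)` has no elements of
order `p (q + 1)`. -/
theorem not_mixed (hP : Par p q) (hp2 : p ≠ 2) {H : Type u} [Group H] [Finite H] (S : Subgroup H) [S.Normal]
    (hC : centralizer (S : Set H) = ⊥) (hj : ∃ j : ℕ, Nat.card (H ⧸ S) = 2 ^ j)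
    (hF : Fintype.card F = q ^ 2) (e : S ≃* PSL2) {g : H} (hg : orderOf g = p * (q + 1)) : False := by
  classical
  have := Fact.mk hP.prime
  have hp := hP.prime
  obtain ⟨n, hn⟩ := hP.pow
  have hch : CharP F p := charP_of_card (n := n * 2) hP.prime (by rw [hF, hn, pow_mul])
  have hbig := hP.big
  obtain ⟨ρ, hρ, hρ'⟩ := exists_rho (F := F) p
  have hfin : Finite (F ≃+* F) := finite_ringEquiv
  have hn0 : n ≠ 0 := by rintro rfl; rw [pow_zero] at hn; omega
  have hcardF : Nat.card (F ≃+* F) = n * 2 :=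
    Lib.FieldAutCard.card_ringAut (p := p) (by omega) (by rw [hF, hn, pow_mul])
  -- the two parts
  have hu : orderOf (g ^ (q + 1)) = p := by
    rw [orderOf_pow_of_dvd (by omega) (by rw [hg]; exact Dvd.intro_left _ rfl), hg, Nat.mul_div_cancel _ (by omega)]
  have hc : orderOf (g ^ p) = q + 1 := by
    rw [orderOf_pow_of_dvd hp.ne_zero (by rw [hg]; exact Dvd.intro _ rfl), hg, Nat.mul_div_cancel_left _ hp.pos]
  have huS : g ^ (q + 1) ∈ S := by
    obtain ⟨j, hj⟩ := hj
    rw [← QuotientGroup.eq_one_iff]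
    have h1 : ((g ^ (q + 1) : H) : H ⧸ S) ^ p = 1 := by
      rw [← QuotientGroup.mk_pow, ← hu, pow_orderOf_eq_one, QuotientGroup.mk_one]
    have h2 := orderOf_dvd_of_pow_eq_one h1
    have h3 : orderOf ((g ^ (q + 1) : H) : H ⧸ S) ∣ 2 ^ j := by rw [← hj]; exact orderOf_dvd_natCard _
    have h4 : Nat.Coprime p (2 ^ j) := Nat.Coprime.pow_right _ ((Nat.coprime_primes hp Nat.prime_two).2 hp2)
    rw [← orderOf_eq_one_iff]
    exact Nat.eq_one_of_dvd_coprimes h4 h2 h3
  set c : H := g ^ p with hcdef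
  set σ : F ≃+* F := ρ (T e c) with hσ
  set d := orderOf σ with hd
  have hcd : c ^ (2 * d) ∈ S := by
    obtain ⟨B, hB⟩ := hρ (T e (c ^ d))
    have h1 : ρ (T e (c ^ d)) = 1 := by
      rw [map_pow, map_pow, ← hσ, hd, pow_orderOf_eq_one]
    rw [h1, map_one, mul_one] at hB
    obtain ⟨b, hb⟩ : ∃ b : Fˣ, (b : F) = (B : Matrix (Fin 2) (Fin 2) F).det :=
      (Matrix.isUnit_iff_isUnit_det _).1 B.isUnit
    obtain ⟨x, hx⟩ := exists_inner (A := (1 : GL (Fin 2) F)) (B := B * B) (s := b) (by
      rw [Units.val_mul, Matrix.det_mul, Units.val_one, Matrix.det_one, one_mul, ← hb]; ring)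
    rw [map_one, map_one, mul_one, map_mul, map_mul, ← hB, ← map_mul, ← pow_add, ← two_mul] at hx
    exact T_mem e hC hx
  -- inside `PSL₂`
  set w : PSL2 := e ⟨c ^ (2 * d), hcd⟩ with hw
  set v : PSL2 := e ⟨g ^ (q + 1), huS⟩ with hv
  have hvo : orderOf v = p := by rw [hv, MulEquiv.orderOf_eq, Subgroup.orderOf_mk, hu]
  have hwo : orderOf w ∣ q + 1 := by
    rw [hw, MulEquiv.orderOf_eq, Subgroup.orderOf_mk, ← hc]
    exact orderOf_pow_dvd _
  have hcomm : Commute v w := by
    have h1 : Commute (⟨g ^ (q + 1), huS⟩ : S) ⟨c ^ (2 * d), hcd⟩ := by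
      apply Subtype.ext
      change g ^ (q + 1) * c ^ (2 * d) = c ^ (2 * d) * g ^ (q + 1)
      rw [hcdef]
      exact (((Commute.refl g).pow_left _).pow_right _).pow_right _
    exact h1.map e.toMonoidHom
  have hcop : Nat.Coprime p (orderOf w) := by
    rw [Nat.Prime.coprime_iff_not_dvd hp]
    intro h1
    exact p_not_dvd_add hP (h1.trans hwo)
  have hvw : orderOf (v * w) = p * orderOf w := by
    rw [hcomm.orderOf_mul_eq_mul_orderOf_of_coprime (by rwa [hvo]), hvo]
  have hspec : orderOf (v * w) ∈ Set.range (orderOf : PSL2 → ℕ) := ⟨_, rfl⟩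
  have h4F : 4 ≤ Fintype.card F := by
    rw [hF]
    calc 4 = 2 ^ 2 := by norm_num
      _ ≤ q ^ 2 := Nat.pow_le_pow_left (by omega) 2
  rw [S2475.result p h4F, Set.mem_ofPred_eq, hvw, hF] at hspec
  have hsq1 : 1 ≤ q ^ 2 := Nat.one_le_pow _ _ (by omega)
  have hpq : p ∣ q ^ 2 := hP.p_dvd.trans (dvd_pow_self q two_ne_zero)
  have hw1 : orderOf w = 1 := by
    rcases hspec with h | h | h
    · have h1 : p * orderOf w ∣ p * 1 := by rwa [mul_one]
      exact Nat.dvd_one.1 (Nat.dvd_of_mul_dvd_mul_left hp.pos h1)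
    · exfalso
      have h1 : p ∣ q ^ 2 - 1 := ((Dvd.intro _ rfl).trans h).trans (Nat.div_dvd_of_dvd (Nat.gcd_dvd_right _ _))
      have h2 := (Nat.dvd_sub hpq h1)
      rw [Nat.sub_sub_self hsq1] at h2
      exact hp.one_lt.ne' (Nat.dvd_one.1 h2)
    · exfalso
      have h0 : Nat.gcd 2 (q ^ 2 - 1) ∣ q ^ 2 + 1 := by
        have h5 : q ^ 2 + 1 = (q ^ 2 - 1) + 2 := by omega
        rw [h5]
        exact dvd_add (Nat.gcd_dvd_right _ _) (Nat.gcd_dvd_left _ _)
      have h1 : p ∣ q ^ 2 + 1 := ((Dvd.intro _ rfl).trans h).trans (Nat.div_dvd_of_dvd h0)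
      exact hp.one_lt.ne' (Nat.dvd_one.1 ((Nat.dvd_add_right hpq).1 h1))
  have hcd1 : c ^ (2 * d) = 1 := by
    rw [hw, MulEquiv.orderOf_eq, Subgroup.orderOf_mk, orderOf_eq_one_iff] at hw1
    exact hw1
  have h1 := orderOf_dvd_of_pow_eq_one hcd1
  rw [hc] at h1
  have hd0 : 0 < d := orderOf_pos σ
  have h2 := Nat.le_of_dvd (by omega) h1
  have h3 : d ≤ n * 2 := Nat.le_of_dvd (by omega) (by rw [← hcardF]; exact orderOf_dvd_natCard σ)
  have h3p : 3 ≤ p := by
    have := hp.two_le
    omega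
  rcases Nat.lt_or_ge n 2 with h4 | h4
  · have hn1 : n = 1 := by omega
    subst hn1
    rw [pow_one] at hn
    have := hP.ne
    omega
  · have h5 : 3 ^ n ≤ q := by rw [hn]; exact Nat.pow_le_pow_left h3p n
    have h6 := four_mul_lt h4
    omega

end Cfsg.Agent.H374.P4.OutL
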